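import Cfsg.Agent.Lib.Perm.LW.Semiregular
import Cfsg.Agent.Lib.Perm.Multi
import Cfsg.Agent.S0743

/-!
In a `k`-transitive group, `4 ≤ k < n`, some `(k+1)`-set has the alternating group induced on it
by its stabiliser.
-/

set_option autoImplicit false
set_option linter.unusedSectionVars false

universe u

namespace CfsgLib.Perm.LW

open MulAction Finset

section Induced

variable {α : Type*}

/-- The permutations of `Δ` induced by elements of `G`. -/
def inducedPerms (G : Subgroup (Equiv.Perm α)) (Δ : Finset α) : Subgroup (Equiv.Perm ↥Δ) where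
  carrier := {σ | ∃ g ∈ G, ∀ x : ↥Δ, g x = σ x}
  one_mem' := ⟨1, G.one_mem, fun _ => rfl⟩
  mul_mem' := by
    rintro σ τ ⟨g, hg, h1⟩ ⟨h, hh, h2⟩
    exact ⟨g * h, G.mul_mem hg hh, fun x => by simp [h1, h2]⟩
  inv_mem' := by
    rintro σ ⟨g, hg, h1⟩
    refine ⟨g⁻¹, G.inv_mem hg, fun x => ?_⟩
    rw [Equiv.Perm.inv_def, Equiv.symm_apply_eq, h1]
    simp

theorem mem_inducedPerms {G : Subgroup (Equiv.Perm α)} {Δ : Finset α} {σ : Equiv.Perm ↥Δ} :
    σ ∈ inducedPerms G Δ ↔ ∃ g ∈ G, ∀ x : ↥Δ, g x = σ x := Iff.rfl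

variable [Fintype α] [DecidableEq α]

/-- A `k`-transitive group induces the symmetric group on every `k`-set. -/
theorem inducedPerms_eq_top {G : Subgroup (Equiv.Perm α)} {k : ℕ} (h : IsMultiplyPretransitive G α k)
    {Δ : Finset α} (hΔ : Δ.card = k) : inducedPerms G Δ = ⊤ := by
  refine eq_top_iff.2 fun σ _ => ?_
  let e := Δ.equivFinOfCardEq hΔ
  obtain ⟨g, hg⟩ := h.exists_smul_eq (e.symm.toEmbedding.trans (Function.Embedding.subtype _))
    ((e.symm.trans σ).toEmbedding.trans (Function.Embedding.subtype _))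
  refine ⟨g, g.2, fun x => ?_⟩
  have := DFunLike.congr_fun hg (e x)
  simpa [Subgroup.smul_def] using this

end Induced

section Sharp

variable {α : Type*} [Fintype α] [DecidableEq α] {G : Subgroup (Equiv.Perm α)} {k : ℕ}

/-- `g` interchanges `x`, `y` and fixes the other points of `s`. -/
def IsLift (G : Subgroup (Equiv.Perm α)) (s : Finset α) (g : Equiv.Perm α) (x y : α) : Prop :=
  g ∈ G ∧ g x = y ∧ g y = x ∧ ∀ z ∈ s, z ≠ x → z ≠ y → g z = z

variable (hk : 4 ≤ k) (htr : IsMultiplyPretransitive G α k) (hn : Fintype.card α = k + 7)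
  (hsm : ∀ g ∈ G, g ≠ 1 → (fixSet g : Finset α).card ≤ k)
  (hsharp : ∀ s : Finset α, s.card = k → ∀ g ∈ G, (∀ x ∈ s, g x = x) → g = 1)

include htr in
theorem exists_lift {s : Finset α} (hs : s.card = k) {x y : α} (hx : x ∈ s) (hy : y ∈ s) :
    ∃ g, IsLift G s g x y := by
  obtain ⟨g, hg, h⟩ := (inducedPerms_eq_top htr hs).ge (Subgroup.mem_top (Equiv.swap ⟨x, hx⟩ ⟨y, hy⟩))
  refine ⟨g, hg, by simpa using h ⟨x, hx⟩, by simpa using h ⟨y, hy⟩, fun z hz hzx hzy => ?_⟩
  have := h ⟨z, hz⟩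
  rwa [Equiv.swap_apply_of_ne_of_ne (by simpa using hzx) (by simpa using hzy)] at this

include hsharp in
theorem IsLift.unique {s : Finset α} (hs : s.card = k) {g h : Equiv.Perm α} {x y : α}
    (hg : IsLift G s g x y) (hh : IsLift G s h x y) : g = h := by
  refine (inv_mul_eq_one.1 (hsharp s hs _ (G.mul_mem (G.inv_mem hg.1) hh.1) fun z hz => ?_))
  rw [Equiv.Perm.mul_apply, Equiv.Perm.inv_def, Equiv.symm_apply_eq]
  rcases eq_or_ne z x with rfl | hzx
  · rw [hg.2.1, hh.2.1]
  rcases eq_or_ne z y with rfl | hzy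
  · rw [hg.2.2.1, hh.2.2.1]
  rw [hg.2.2.2 z hz hzx hzy, hh.2.2.2 z hz hzx hzy]

theorem IsLift.maps {s : Finset α} {g : Equiv.Perm α} {x y : α} (hx : x ∈ s) (hy : y ∈ s)
    (hg : IsLift G s g x y) {z : α} (hz : z ∈ s) : g z ∈ s := by
  rcases eq_or_ne z x with rfl | hzx
  · rwa [hg.2.1]
  rcases eq_or_ne z y with rfl | hzy
  · rwa [hg.2.2.1]
  rwa [hg.2.2.2 z hz hzx hzy]

include hsharp in
theorem IsLift.sq {s : Finset α} (hs : s.card = k) {g : Equiv.Perm α} {x y : α}
    (hg : IsLift G s g x y) : g * g = 1 := by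
  refine hsharp s hs _ (G.mul_mem hg.1 hg.1) fun z hz => ?_
  rw [Equiv.Perm.mul_apply]
  rcases eq_or_ne z x with rfl | hzx
  · rw [hg.2.1, hg.2.2.1]
  rcases eq_or_ne z y with rfl | hzy
  · rw [hg.2.2.1, hg.2.1]
  rw [hg.2.2.2 z hz hzx hzy, hg.2.2.2 z hz hzx hzy]

include hn hsm hsharp in
/-- A transposition lifts to an involution with exactly one fixed point outside. -/
theorem IsLift.existsUnique {s : Finset α} (hs : s.card = k) {g : Equiv.Perm α} {x y : α}
    (hx : x ∈ s) (hy : y ∈ s) (hxy : x ≠ y) (hg : IsLift G s g x y) :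
    ∃! a, a ∉ s ∧ g a = a := by
  have hgg := hg.sq hsharp hs
  have hg1 : g ≠ 1 := fun e => hxy (by simpa [e] using hg.2.1)
  have hC : ∀ a ∈ sᶜ, g • a ∈ sᶜ := fun a ha => by
    rw [mem_compl] at ha ⊢
    intro h
    refine ha ?_
    have := hg.maps hx hy h
    rwa [Equiv.Perm.smul_def, ← Equiv.Perm.mul_apply, hgg] at this
  obtain ⟨m, hm⟩ := even_card_moved hgg hC
  have hsum := card_moved_add_card_fixed g sᶜ
  rw [hm, card_compl, hs, hn] at hsum
  have hle : (sᶜ.filter fun a => g • a = a).card + (s \ {x, y}).card ≤ k := by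
    rw [← card_union_of_disjoint (disjoint_left.2 fun a ha hb => by
      simp only [mem_filter, mem_compl, mem_sdiff] at ha hb; exact ha.1 hb.1)]
    refine (card_le_card fun a ha => ?_).trans (hsm g hg.1 hg1)
    rw [mem_fixSet]
    simp only [mem_union, mem_filter, mem_sdiff, mem_insert, mem_singleton, not_or] at ha
    rcases ha with h | h
    · exact h.2
    · exact hg.2.2.2 a h.1 h.2.1 h.2.2
  rw [card_sdiff_of_subset (by simp [insert_subset_iff, hx, hy]), hs, card_pair hxy] at hle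
  obtain ⟨a, ha⟩ : ∃ a, (sᶜ.filter fun a => g • a = a) = {a} := card_eq_one.1 (by omega)
  have hmem : a ∈ sᶜ.filter fun a => g • a = a := ha ▸ mem_singleton_self a
  refine ⟨a, by simpa using hmem, fun b hb => ?_⟩
  have : b ∈ sᶜ.filter fun a => g • a = a := by simpa using hb
  rwa [ha, mem_singleton] at this

include hsharp in
theorem IsLift.conj {s : Finset α} (hs : s.card = k) {g h : Equiv.Perm α} {x y z w : α}
    (hx : x ∈ s) (hy : y ∈ s) (hg : IsLift G s g x y) (hh : IsLift G s h z w) :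
    IsLift G s (g * h * g⁻¹) (g z) (g w) := by
  have hgg := hg.sq hsharp hs
  have hgi : g⁻¹ = g := inv_eq_of_mul_eq_one_right hgg
  have hgg' : ∀ p, g (g p) = p := fun p => by rw [← Equiv.Perm.mul_apply, hgg]; rfl
  refine ⟨G.mul_mem (G.mul_mem hg.1 hh.1) (G.inv_mem hg.1), by simp [hh.2.1], by simp [hh.2.2.1],
    fun p hp hpz hpw => ?_⟩
  rw [hgi, Equiv.Perm.mul_apply, Equiv.Perm.mul_apply,
    hh.2.2.2 _ (hg.maps hx hy hp) (fun e => hpz (by rw [← e, hgg']))
      (fun e => hpw (by rw [← e, hgg'])), hgg']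

include hk htr hn hsm hsharp in
/-- Adjacent transpositions share their fixed point. -/
theorem adjacent {s : Finset α} (hs : s.card = k) {x y z : α} (hx : x ∈ s) (hy : y ∈ s) (hz : z ∈ s)
    (hxy : x ≠ y) (hxz : x ≠ z) (hyz : y ≠ z) {g h : Equiv.Perm α} (hg : IsLift G s g x y)
    (hh : IsLift G s h x z) {a : α} (ha : a ∉ s) (hga : g a = a) : h a = a := by
  classical
  obtain ⟨w, hw, hwn⟩ := exists_mem_notMem_of_card_lt_card (s := ({x, y, z} : Finset α)) (t := s)
    (card_le_three.trans_lt (by omega))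
  simp only [mem_insert, mem_singleton, not_or] at hwn
  obtain ⟨hwx, hwy, hwz⟩ : w ≠ x ∧ w ≠ y ∧ w ≠ z := hwn
  obtain ⟨u2, hu2⟩ := exists_lift htr hs hz hw
  obtain ⟨v2, hv2⟩ := exists_lift htr hs hy hw
  obtain ⟨w1, hw1⟩ := exists_lift htr hs hx hw
  obtain ⟨w2, hw2⟩ := exists_lift htr hs hy hz
  have hout : ∀ {q : Equiv.Perm α} {p r : α}, p ∈ s → r ∈ s → IsLift G s q p r → ∀ b ∉ s, q b ∉ s :=
    fun hp hr hq b hb h => hb (by
      have := hq.maps hp hr h
      rwa [← Equiv.Perm.mul_apply, hq.sq hsharp hs] at this)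
  have huniq : ∀ {q : Equiv.Perm α} {p r : α}, p ∈ s → r ∈ s → p ≠ r → IsLift G s q p r →
      ∀ b c, b ∉ s → q b = b → c ∉ s → q c = c → b = c :=
    fun hp hr hpr hq b c hb hqb hc hqc =>
      (hq.existsUnique hn hsm hsharp hs hp hr hpr).unique ⟨hb, hqb⟩ ⟨hc, hqc⟩
  -- commuting lifts share the fixed point
  have hshare : ∀ {q : Equiv.Perm α} {p r : α} {q' : Equiv.Perm α} {p' r' : α}, p ∈ s → r ∈ s → p ≠ r →
      IsLift G s q p r → p' ∈ s → r' ∈ s → IsLift G s q' p' r' → p ≠ p' → p ≠ r' → r ≠ p' → r ≠ r' →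
      ∀ b ∉ s, q b = b → q' b = b := by
    intro q p r q' p' r' hp hr hpr hq hp' hr' hq' n1 n2 n3 n4 b hb hqb
    have hc := hq'.conj hsharp hs hp' hr' hq
    rw [hq'.2.2.2 p hp n1 n2, hq'.2.2.2 r hr n3 n4] at hc
    have e := hc.unique hsharp hs hq
    refine huniq hp hr hpr hq _ _ (hout hp' hr' hq' b hb) ?_ hb hqb
    have h1 := congrArg (fun f : Equiv.Perm α => f (q' b)) e
    simp only [Equiv.Perm.mul_apply, Equiv.Perm.inv_def, Equiv.symm_apply_apply, hqb] at h1
    exact h1.symm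
  obtain ⟨B, ⟨hB, hhB⟩, -⟩ := hh.existsUnique hn hsm hsharp hs hx hz hxz
  obtain ⟨C, ⟨hC, hw1C⟩, -⟩ := hw1.existsUnique hn hsm hsharp hs hx hw hwx.symm
  have hu2A := hshare hx hy hxy hg hz hw hu2 hxz hwx.symm hyz hwy.symm a ha hga
  have hv2B := hshare hx hz hxz hh hy hw hv2 hxy hwx.symm hyz.symm hwz.symm B hB hhB
  have hw2C := hshare hx hw hwx.symm hw1 hy hz hw2 hxy hxz hwy hwz C hC hw1C
  by_cases hAB : a = B
  · rwa [hAB]
  exfalso
  -- reduce to three distinct fixed points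
  have hAC : a ≠ C := fun e => hAB (by
    subst e
    have hc := hg.conj hsharp hs hx hy hw2
    rw [hg.2.2.1, hg.2.2.2 z hz hxz.symm hyz.symm] at hc
    have e := hc.unique hsharp hs hh
    refine (huniq hx hz hxz hh a B ha ?_ hB hhB)
    rw [← e, Equiv.Perm.mul_apply, Equiv.Perm.mul_apply,
      show g⁻¹ a = a by rw [Equiv.Perm.inv_def, Equiv.symm_apply_eq, hga], hw2C, hga])
  have hBC : B ≠ C := fun e => hAB (by
    subst e
    have hc := hh.conj hsharp hs hx hz hw2
    rw [hh.2.2.2 y hy hxy.symm hyz, hh.2.2.1] at hc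
    have e := (hc.unique hsharp hs (⟨hg.1, hg.2.2.1, hg.2.1, fun p hp h1 h2 => hg.2.2.2 p hp h2 h1⟩ :
      IsLift G s g y x))
    refine huniq hx hy hxy hg a B ha hga hB ?_
    rw [← e, Equiv.Perm.mul_apply, Equiv.Perm.mul_apply,
      show h⁻¹ B = B by rw [Equiv.Perm.inv_def, Equiv.symm_apply_eq, hhB], hw2C, hhB])
  -- the double elements
  set d := g * u2 with hd
  set e := h * v2 with he
  have hgu : u2 y = y ∧ u2 x = x ∧ g z = z ∧ g w = w :=
    ⟨hu2.2.2.2 y hy hyz hwy.symm, hu2.2.2.2 x hx hxz hwx.symm,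
      hg.2.2.2 z hz hxz.symm hyz.symm, hg.2.2.2 w hw hwx hwy⟩
  have hhv : v2 z = z ∧ v2 x = x ∧ h y = y ∧ h w = w :=
    ⟨hv2.2.2.2 z hz hyz.symm hwz.symm, hv2.2.2.2 x hx hxy hwx.symm,
      hh.2.2.2 y hy hxy.symm hyz, hh.2.2.2 w hw hwx hwz⟩
  have hd4 : d x = y ∧ d y = x ∧ d z = w ∧ d w = z := by
    simp [hd, hgu, hg.2.1, hg.2.2.1, hu2.2.1, hu2.2.2.1]
  have he4 : e x = z ∧ e z = x ∧ e y = w ∧ e w = y := by
    simp [he, hhv, hh.2.1, hh.2.2.1, hv2.2.1, hv2.2.2.1]
  set U := s \ {x, y, z, w} with hU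
  have hUmem : ∀ p ∈ U, p ∈ s ∧ p ≠ x ∧ p ≠ y ∧ p ≠ z ∧ p ≠ w := fun p hp => by
    simpa [hU] using hp
  have hUcard : U.card = k - 4 := by
    rw [hU, card_sdiff_of_subset (by simp [insert_subset_iff, hx, hy, hz, hw]), hs,
      card_eq_of_equiv_fin (n := 4)]
    refine Fintype.equivFinOfCardEq ?_
    rw [Fintype.card_coe]
    simp [hxy, hxz, hyz, hwx.symm, hwy.symm, hwz.symm]
  have hdU : ∀ p ∈ U, d p = p := fun p hp => by
    obtain ⟨h0, h1, h2, h3, h4⟩ := hUmem p hp
    rw [hd, Equiv.Perm.mul_apply, hu2.2.2.2 p h0 h3 h4, hg.2.2.2 p h0 h1 h2]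
  have heU : ∀ p ∈ U, e p = p := fun p hp => by
    obtain ⟨h0, h1, h2, h3, h4⟩ := hUmem p hp
    rw [he, Equiv.Perm.mul_apply, hv2.2.2.2 p h0 h2 h4, hh.2.2.2 p h0 h1 h3]
  have hdG : d ∈ G := G.mul_mem hg.1 hu2.1
  have heG : e ∈ G := G.mul_mem hh.1 hv2.1
  have hinv : ∀ q ∈ G, (∀ p ∈ U, q p = p) → q (q x) = x → q (q y) = y → q (q z) = z → q (q w) = w →
      q * q = 1 := by
    intro q hq hqU e1 e2 e3 e4
    refine hsharp s hs _ (G.mul_mem hq hq) fun p hp => ?_
    rw [Equiv.Perm.mul_apply]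
    by_cases hpU : p ∈ U
    · rw [hqU p hpU, hqU p hpU]
    simp only [hU, mem_sdiff, hp, true_and, not_not, mem_insert, mem_singleton] at hpU
    rcases hpU with rfl | rfl | rfl | rfl <;> assumption
  have hdd : d * d = 1 := hinv d hdG hdU (by rw [hd4.1, hd4.2.1]) (by rw [hd4.2.1, hd4.1])
    (by rw [hd4.2.2.1, hd4.2.2.2]) (by rw [hd4.2.2.2, hd4.2.2.1])
  have hee : e * e = 1 := hinv e heG heU (by rw [he4.1, he4.2.1]) (by rw [he4.2.2.1, he4.2.2.2])
    (by rw [he4.2.1, he4.1]) (by rw [he4.2.2.2, he4.2.2.1])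
  -- both fix the three points
  have hconjfix : ∀ {q q1 q2 : Equiv.Perm α} {p r p' r' b : α}, p ∈ s → r ∈ s → p ≠ r → q ∈ G →
      q * q = 1 → (∀ t ∈ s, q t ∈ s) → IsLift G s q1 p r → IsLift G s q2 p' r' → q p' = p → q r' = r →
      b ∉ s → q1 b = b → q2 b = b → q b = b := by
    intro q q1 q2 p r p' r' b hp hr hpr hq hqq hqs h1 h2 e1 e2 hb b1 b2
    have hqi : q⁻¹ = q := inv_eq_of_mul_eq_one_right hqq
    have hq2 : ∀ t, q (q t) = t := fun t => by rw [← Equiv.Perm.mul_apply, hqq]; rfl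
    have hc : IsLift G s (q * q2 * q⁻¹) p r := by
      refine ⟨G.mul_mem (G.mul_mem hq h2.1) (G.inv_mem hq), ?_, ?_, fun t ht n1 n2 => ?_⟩
      · simp [hqi, ← e1, hq2, h2.2.1, e2]
      · simp [hqi, ← e2, hq2, h2.2.2.1, e1]
      · rw [hqi, Equiv.Perm.mul_apply, Equiv.Perm.mul_apply, h2.2.2.2 _ (hqs t ht)
          (fun e => n1 (by rw [← e1, ← e, hq2])) (fun e => n2 (by rw [← e2, ← e, hq2])), hq2]
    refine huniq hp hr hpr h1 _ _ (fun hm => hb (by simpa [hq2] using hqs _ hm)) ?_ hb b1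
    rw [← hc.unique hsharp hs h1]
    simp [b2]
  have hdm : ∀ t ∈ s, d t ∈ s := fun t ht => by
    rw [hd, Equiv.Perm.mul_apply]; exact hg.maps hx hy (hu2.maps hz hw ht)
  have hem : ∀ t ∈ s, e t ∈ s := fun t ht => by
    rw [he, Equiv.Perm.mul_apply]; exact hh.maps hx hz (hv2.maps hy hw ht)
  have hv2' : IsLift G s v2 y w := hv2
  have dA : d a = a := by rw [hd, Equiv.Perm.mul_apply, hu2A, hga]
  have eB : e B = B := by rw [he, Equiv.Perm.mul_apply, hv2B, hhB]
  have dB : d B = B :=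
    hconjfix hx hz hxz hdG hdd hdm hh hv2' hd4.2.1 hd4.2.2.2 hB hhB hv2B
  have eA : e a = a :=
    hconjfix hx hy hxy heG hee hem hg hu2 he4.2.1 he4.2.2.2 ha hga hu2A
  have dC : d C = C := hconjfix hx hw hwx.symm hdG hdd hdm hw1 hw2 hd4.2.1 hd4.2.2.1 hC hw1C hw2C
  have eC : e C = C := hconjfix hx hw hwx.symm heG hee hem hw1
    (⟨hw2.1, hw2.2.2.1, hw2.2.1, fun t ht n1 n2 => hw2.2.2.2 t ht n2 n1⟩ : IsLift G s w2 z y)
    he4.2.1 he4.2.2.1 hC hw1C hw2C
  -- counting in the pointwise stabiliser of `k - 2` points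
  letI : Fintype G := Fintype.ofFinite G
  set Z : Finset α := insert a (insert B U) with hZ
  have hBU : B ∉ U := fun h => hB (hUmem B h).1
  have haU : a ∉ insert B U := by
    simp only [mem_insert, not_or]
    exact ⟨hAB, fun h => ha (hUmem a h).1⟩
  have hZcard : Z.card = k - 2 := by
    rw [hZ, card_insert_of_notMem haU, card_insert_of_notMem hBU, hUcard]; omega
  set A : Subgroup G := fixingSubgroup G (Z : Set α) with hA
  have hAmem : ∀ q : G, q ∈ A ↔ ∀ p ∈ Z, (q : Equiv.Perm α) p = p := fun q => by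
    rw [hA, mem_fixingSubgroup_iff]; rfl
  have htrans : ∀ p q p' q', p ∉ Z → q ∉ Z → p ≠ q → p' ∉ Z → q' ∉ Z → p' ≠ q' →
      ∃ r ∈ A, r • p = p' ∧ r • q = q' := by
    intro p q p' q' hp hq hpq hp' hq' hpq'
    have hnd : ∀ p q, p ∉ Z → q ∉ Z → p ≠ q → (Z.toList ++ [p, q]).Nodup := fun p q hp hq hpq => by
      rw [List.nodup_append]
      refine ⟨Z.nodup_toList, by simp [hpq], fun t ht r hr => ?_⟩
      simp only [List.mem_cons, List.not_mem_nil, or_false] at hr
      rw [mem_toList] at ht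
      rcases hr with rfl | rfl <;> rintro rfl <;> contradiction
    obtain ⟨r, hr⟩ := exists_smul_of_nodup htr (hnd p q hp hq hpq) (hnd p' q' hp' hq' hpq')
      (by simp [hZcard]; omega) (by simp [hZcard]; omega)
    rw [List.map_append] at hr
    obtain ⟨h1, h2⟩ := List.append_inj hr (by simp)
    simp only [List.map_cons, List.map_nil, List.cons.injEq, and_true] at h2
    refine ⟨r, (hAmem r).2 fun t ht => ?_, h2⟩
    have h3 : Z.toList.map (fun v => r • v) = Z.toList.map id := by rw [List.map_id]; exact h1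
    exact List.map_eq_map_iff.1 h3 t (mem_toList.2 ht)
  set S := univ.filter fun q : G => q ∈ A ∧ q * q = 1 ∧ q ≠ 1 with hS
  have hSconj : ∀ r ∈ A, ∀ q ∈ S, r * q * r⁻¹ ∈ S := fun r hr q hq => by
    simp only [hS, mem_filter, mem_univ, true_and] at hq ⊢
    refine ⟨mul_mem (mul_mem hr hq.1) (inv_mem hr), ?_, fun e => hq.2.2 (conj_eq_one_iff.1 e)⟩
    calc r * q * r⁻¹ * (r * q * r⁻¹) = r * (q * q) * r⁻¹ := by group
      _ = 1 := by rw [hq.2.1, mul_one, mul_inv_cancel]
  have hCcard : Zᶜ.card = 9 := by rw [card_compl, hn, hZcard]; omega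
  have hstab : ∀ q ∈ S, ∀ p ∈ Zᶜ, q • p ∈ Zᶜ := fun q hq p hp => by
    simp only [hS, mem_filter, mem_univ, true_and] at hq
    rw [mem_compl] at hp ⊢
    intro hm
    refine hp ?_
    have h1 : q • q • p = q • p := (hAmem q).1 hq.1 _ hm
    rwa [smul_left_cancel q h1] at hm
  have hfix1 : ∀ q ∈ S, (Zᶜ.filter fun p => q • p = p).card = 1 := fun q hq => by
    have hev := even_card_moved (x := q) (by
      simp only [hS, mem_filter, mem_univ, true_and] at hq; exact hq.2.1) (hstab q hq)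
    obtain ⟨m, hm⟩ := hev
    have hsum := card_moved_add_card_fixed q Zᶜ
    rw [hm, hCcard] at hsum
    simp only [hS, mem_filter, mem_univ, true_and] at hq
    have hle : (Zᶜ.filter fun p => q • p = p).card + Z.card ≤ k := by
      rw [← card_union_of_disjoint (disjoint_left.2 fun p hp hp' => by
        simp only [mem_filter, mem_compl] at hp; exact hp.1 hp')]
      refine (card_le_card fun p hp => ?_).trans
        (hsm (q : Equiv.Perm α) q.2 fun e => hq.2.2 (Subtype.ext e))
      rw [mem_fixSet]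
      rcases mem_union.1 hp with h1 | h1
      · exact (mem_filter.1 h1).2
      · exact (hAmem q).1 hq.1 p h1
    omega
  obtain ⟨p0, hp0⟩ := card_pos.1 (show 0 < Zᶜ.card by omega)
  obtain ⟨q0, hq0, hpq0⟩ := exists_mem_ne (show 1 < Zᶜ.card by omega) p0
  rw [mem_compl] at hp0 hq0
  have hy1 : (p0, q0) ∈ Zᶜ.offDiag := by simp [mem_offDiag, hp0, hq0, Ne.symm hpq0]
  have hswap := pairCount (fun (q : G) (p : α × α) => q • p.1 = p.2 ∧ q • p.2 = p.1) A S Zᶜ.offDiag hSconj
    (fun p hp q hq => by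
      simp only [mem_offDiag, mem_compl] at hp hq
      obtain ⟨r, hr, h1, h2⟩ := htrans p.1 p.2 q.1 q.2 hp.1 hp.2.1 hp.2.2 hq.1 hq.2.1 hq.2.2
      exact ⟨r, hr, Prod.ext h1 h2⟩)
    (fun r _ q p hp => by constructor <;> simp [Prod.smul_fst, Prod.smul_snd, mul_smul, hp.1, hp.2]) hy1
  have hone : (S.filter fun q => q • p0 = q0 ∧ q • q0 = p0).card = 1 := by
    obtain ⟨r, hr, h1, h2⟩ := htrans p0 q0 q0 p0 hp0 hq0 hpq0.symm hq0 hp0 hpq0
    have hcardk : (insert p0 (insert q0 Z)).card = k := by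
      rw [card_insert_of_notMem (by simp [hpq0.symm, hp0]), card_insert_of_notMem hq0, hZcard]; omega
    have hag : ∀ q : G, q ∈ A → q • p0 = p0 → q • q0 = q0 → q = 1 := fun q hq e1 e2 =>
      Subtype.ext (hsharp _ hcardk q q.2 fun p hp => by
        rcases mem_insert.1 hp with rfl | hp
        · exact e1
        rcases mem_insert.1 hp with rfl | hp
        · exact e2
        exact (hAmem q).1 hq p hp)
    have hr1 : r ≠ 1 := fun e => hpq0 (by rw [← h1, e, one_smul])
    refine card_eq_one.2 ⟨r, eq_singleton_iff_unique_mem.2 ⟨?_, fun q hq => ?_⟩⟩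
    · simp only [hS, mem_filter, mem_univ, true_and]
      exact ⟨⟨hr, hag _ (mul_mem hr hr) (by rw [mul_smul, h1, h2]) (by rw [mul_smul, h2, h1]), hr1⟩, h1, h2⟩
    · simp only [hS, mem_filter, mem_univ, true_and] at hq
      refine (inv_mul_eq_one.1 (hag _ (mul_mem (inv_mem hr) hq.1.1) ?_ ?_)).symm
      · rw [mul_smul, hq.2.1, inv_smul_eq_iff, h1]
      · rw [mul_smul, hq.2.2, inv_smul_eq_iff, h2]
  rw [hone, offDiag_card, hCcard] at hswap
  have hmoved : ∀ q ∈ S, (Zᶜ.offDiag.filter fun p => q • p.1 = p.2 ∧ q • p.2 = p.1).card = 8 :=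
    fun q hq => by
      have := card_moved_add_card_fixed q Zᶜ
      rw [hfix1 q hq, hCcard] at this
      rw [card_pairs_swapped (by simp only [hS, mem_filter] at hq; exact hq.2.2.1) (hstab q hq)]
      omega
  rw [sum_congr rfl hmoved, sum_const, smul_eq_mul] at hswap
  have hCZ : C ∉ Z := by
    simp only [hZ, mem_insert, not_or]
    exact ⟨hAC.symm, hBC.symm, fun h => hC (hUmem C h).1⟩
  have hsingle := pairCount (fun (q : G) (p : α) => q • p = p) A S Zᶜ hSconj
    (fun p hp q hq => by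
      rw [mem_compl] at hp hq
      obtain ⟨p', hp', hne⟩ := exists_mem_ne (show 1 < Zᶜ.card by omega) p
      obtain ⟨q', hq', hne'⟩ := exists_mem_ne (show 1 < Zᶜ.card by omega) q
      rw [mem_compl] at hp' hq'
      obtain ⟨r, hr, h1, -⟩ := htrans p p' q q' hp hp' hne.symm hq hq' hne'.symm
      exact ⟨r, hr, h1⟩)
    (fun r _ q p hp => by simp [mul_smul, hp]) (y := C) (mem_compl.2 hCZ)
  rw [sum_congr rfl hfix1, sum_const, smul_eq_mul, hCcard] at hsingle
  have hd1 : d ≠ 1 := fun e => hxy (by simpa [e] using hd4.1)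
  have he1 : e ≠ 1 := fun e' => hxz (by simpa [e'] using he4.1)
  have hmemS : ∀ q : Equiv.Perm α, ∀ hq : q ∈ G, q * q = 1 → q ≠ 1 → (∀ p ∈ U, q p = p) → q a = a →
      q B = B → q C = C → (⟨q, hq⟩ : G) ∈ S.filter fun q => q • C = C := by
    intro q hq h1 h2 h3 h4 h5 h6
    simp only [hS, mem_filter, mem_univ, true_and]
    refine ⟨⟨(hAmem _).2 fun p hp => ?_, Subtype.ext h1, fun e => h2 (congrArg Subtype.val e)⟩, h6⟩
    simp only [hZ, mem_insert] at hp
    rcases hp with rfl | rfl | hp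
    · exact h4
    · exact h5
    · exact h3 p hp
  have heq : (⟨d, hdG⟩ : G) = ⟨e, heG⟩ := card_le_one.1 (show _ ≤ 1 by omega) _
    (hmemS d hdG hdd hd1 hdU dA dB dC) _ (hmemS e heG hee he1 heU eA eB eC)
  have := congrArg (fun q : G => (q : Equiv.Perm α) x) heq
  simp only [hd4.1, he4.1] at this
  exact hyz this

include hk htr hn hsm hsharp in
/-- All lifts of transpositions of a `k`-set share one fixed point. -/
theorem exists_common {s : Finset α} (hs : s.card = k) :
    ∃ a ∉ s, ∀ x ∈ s, ∀ y ∈ s, x ≠ y → ∀ g, IsLift G s g x y → g a = a := by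
  obtain ⟨x0, hx0, y0, hy0, hne⟩ := one_lt_card.1 (show 1 < s.card by omega)
  obtain ⟨g0, hg0⟩ := exists_lift htr hs hx0 hy0
  obtain ⟨a, ⟨ha, hga⟩, -⟩ := hg0.existsUnique hn hsm hsharp hs hx0 hy0 hne
  refine ⟨a, ha, ?_⟩
  have sym : ∀ {g x y}, IsLift G s g x y → IsLift G s g y x :=
    fun h => ⟨h.1, h.2.2.1, h.2.1, fun p hp n1 n2 => h.2.2.2 p hp n2 n1⟩
  -- all transpositions through `x0`
  have hx : ∀ y ∈ s, y ≠ x0 → ∀ g, IsLift G s g x0 y → g a = a := by
    intro y hy hy0' g hg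
    rcases eq_or_ne y y0 with rfl | hy'
    · rw [hg.unique hsharp hs hg0]; exact hga
    · exact adjacent hk htr hn hsm hsharp hs hx0 hy0 hy hne (Ne.symm hy0') (Ne.symm hy') hg0 hg ha hga
  intro x hxs y hys hxy g hg
  rcases eq_or_ne x x0 with rfl | hx'
  · exact hx y hys hxy.symm g hg
  rcases eq_or_ne y x0 with rfl | hy'
  · exact hx x hxs hxy g (sym hg)
  obtain ⟨g1, hg1⟩ := exists_lift htr hs hx0 hxs
  exact adjacent hk htr hn hsm hsharp hs hxs hx0 hys hx' hxy (Ne.symm hy') (sym hg1) hg ha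
    (hx x hxs hx' g1 hg1)

include hk htr hn hsm hsharp in
/-- The sharply transitive case of degree `k + 7`. -/
theorem exists_good_sharp : ∃ Δ : Finset α, Δ.card = k + 1 ∧
    alternatingGroup ↥Δ ≤ inducedPerms G Δ := by
  obtain ⟨s, hs⟩ : ∃ s : Finset α, s.card = k := by
    obtain ⟨s, -, hs⟩ := exists_subset_card_eq (show k ≤ (univ : Finset α).card by rw [card_univ]; omega)
    exact ⟨s, hs⟩
  obtain ⟨a, ha, hcom⟩ := exists_common hk htr hn hsm hsharp hs
  refine ⟨insert a s, by rw [card_insert_of_notMem ha, hs], le_trans le_top ?_⟩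
  rw [← Equiv.Perm.closure_isSwap, Subgroup.closure_le]
  rintro σ ⟨⟨P, hP⟩, ⟨Q, hQ⟩, hPQ, rfl⟩
  have hpq' : P ≠ Q := fun e => hPQ (Subtype.ext e)
  -- transpositions inside `s`
  have hin : ∀ p ∈ s, ∀ q ∈ s, p ≠ q → ∃ g ∈ G, g p = q ∧ g q = p ∧
      ∀ z ∈ insert a s, z ≠ p → z ≠ q → g z = z := by
    intro p hp q hq hpq
    obtain ⟨g, hg⟩ := exists_lift htr hs hp hq
    refine ⟨g, hg.1, hg.2.1, hg.2.2.1, fun z hz n1 n2 => ?_⟩
    rcases mem_insert.1 hz with rfl | hz
    · exact hcom p hp q hq hpq g hg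
    · exact hg.2.2.2 z hz n1 n2
  -- transpositions moving `a`
  have houta : ∀ p ∈ s, ∃ g ∈ G, g p = a ∧ g a = p ∧
      ∀ z ∈ insert a s, z ≠ p → z ≠ a → g z = z := by
    intro p hp
    obtain ⟨w, hw, hwp⟩ := exists_mem_ne (show 1 < s.card by omega) p
    set s' := insert a (s.erase w) with hs'
    have hs'c : s'.card = k := by
      rw [hs', card_insert_of_notMem (fun h => ha (mem_of_mem_erase h)), card_erase_of_mem hw, hs]
      omega
    obtain ⟨a', ha', hcom'⟩ := exists_common hk htr hn hsm hsharp hs'c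
    obtain ⟨x, hx, hxn⟩ := exists_mem_notMem_of_card_lt_card (s := ({w, p} : Finset α)) (t := s)
      (card_le_two.trans_lt (by omega))
    simp only [mem_insert, mem_singleton, not_or] at hxn
    obtain ⟨g, hg⟩ := exists_lift htr hs hx hp
    have hxp : x ≠ p := hxn.2
    have hx' : x ∈ s' := mem_insert_of_mem (mem_erase.2 ⟨hxn.1, hx⟩)
    have hp' : p ∈ s' := mem_insert_of_mem (mem_erase.2 ⟨hwp.symm, hp⟩)
    have hg' : IsLift G s' g x p := by
      refine ⟨hg.1, hg.2.1, hg.2.2.1, fun z hz n1 n2 => ?_⟩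
      rcases mem_insert.1 hz with rfl | hz
      · exact hcom x hx p hp hxp g hg
      · exact hg.2.2.2 z (mem_of_mem_erase hz) n1 n2
    have hws' : w ∉ s' := by
      simp only [hs', mem_insert, mem_erase, not_or]
      exact ⟨fun e => ha (e ▸ hw), fun h => h.1 rfl⟩
    have hwa : a' = w := (hg'.existsUnique hn hsm hsharp hs'c hx' hp' hxp).unique
      ⟨ha', hcom' x hx' p hp' hxp g hg'⟩ ⟨hws', hg.2.2.2 w hw (Ne.symm hxn.1) hwp⟩
    have has' : a ∈ s' := mem_insert_self _ _
    obtain ⟨h, hh⟩ := exists_lift htr hs'c hp' has'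
    refine ⟨h, hh.1, hh.2.1, hh.2.2.1, fun z hz n1 n2 => ?_⟩
    rcases eq_or_ne z w with rfl | hzw
    · have := hcom' p hp' a has' (fun e => ha (e ▸ hp)) h hh
      rwa [hwa] at this
    · refine hh.2.2.2 z ?_ n1 n2
      rcases mem_insert.1 hz with rfl | hz
      · exact has'
      · exact mem_insert_of_mem (mem_erase.2 ⟨hzw, hz⟩)
  obtain ⟨g, hgG, h1, h2, h3⟩ : ∃ g ∈ G, g P = Q ∧ g Q = P ∧
      ∀ z ∈ insert a s, z ≠ P → z ≠ Q → g z = z := by
    rcases mem_insert.1 hP with rfl | hP'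
    · obtain ⟨g, g0, g1, g2, g3⟩ := houta Q ((mem_insert.1 hQ).resolve_left hpq'.symm)
      exact ⟨g, g0, g2, g1, fun z hz n1 n2 => g3 z hz n2 n1⟩
    rcases mem_insert.1 hQ with rfl | hQ'
    · exact houta P hP'
    exact hin P hP' Q hQ' hpq'
  refine ⟨g, hgG, fun z => ?_⟩
  rcases eq_or_ne z ⟨P, hP⟩ with rfl | n1
  · rw [Equiv.swap_apply_left]; exact h1
  rcases eq_or_ne z ⟨Q, hQ⟩ with rfl | n2
  · rw [Equiv.swap_apply_right]; exact h2
  rw [Equiv.swap_apply_of_ne_of_ne n1 n2]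
  exact h3 z z.2 (fun e => n1 (Subtype.ext e)) (fun e => n2 (Subtype.ext e))

end Sharp

section Main

variable {α : Type u} [Fintype α] [DecidableEq α]

/-- When only few points are fixed by non-trivial elements. -/
theorem exists_good_semiregular (G : Subgroup (Equiv.Perm α)) {k : ℕ} (hk : 4 ≤ k)
    (hkn : k < Fintype.card α) (htr : IsMultiplyPretransitive G α k)
    (hsm : ∀ g ∈ G, g ≠ 1 → (fixSet g : Finset α).card ≤ k) :
    ∃ Δ : Finset α, Δ.card = k + 1 ∧ alternatingGroup ↥Δ ≤ inducedPerms G Δ := by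
  classical
  obtain ⟨Δ, -, hΔ⟩ := exists_subset_card_eq (show k + 1 ≤ (univ : Finset α).card by rw [card_univ]; omega)
  obtain hc | hc | hc : Fintype.card α = k + 1 ∨ Fintype.card α = k + 2 ∨ k + 3 ≤ Fintype.card α := by omega
  · have hG : G = ⊤ := Equiv.Perm.eq_top_of_isMultiplyPretransitive (by
      rw [Nat.card_eq_fintype_card, hc, Nat.add_sub_cancel]; exact htr)
    refine ⟨Δ, hΔ, fun σ _ => ⟨Equiv.Perm.ofSubtype σ, by rw [hG]; exact Subgroup.mem_top _, fun x => ?_⟩⟩
    exact Equiv.Perm.ofSubtype_apply_coe σ x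
  · have hG : alternatingGroup α ≤ G := _root_.IsMultiplyPretransitive.alternatingGroup_le α G (by
      rw [Nat.card_eq_fintype_card, hc, Nat.add_sub_cancel]; exact htr)
    refine ⟨Δ, hΔ, fun σ hσ => ⟨Equiv.Perm.ofSubtype σ, hG ?_, fun x => ?_⟩⟩
    · rw [Equiv.Perm.mem_alternatingGroup] at hσ ⊢
      rw [Equiv.Perm.sign_ofSubtype]
      exact hσ
    · exact Equiv.Perm.ofSubtype_apply_coe σ x
  -- the stabiliser of `k - 4` points is four-transitive
  have hfour : ∀ W : Finset α, W.card = k →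
      (∀ p q, p ∉ W → q ∉ W → ∃ g ∈ G, (∀ x ∈ W, g x = x) ∧ g p = q) ∨
      (Fintype.card α = k + 7 ∧ ∀ g ∈ G, (∀ x ∈ W, g x = x) → g = 1) := by
    intro W hW
    obtain ⟨U, hUW, hU⟩ := exists_subset_card_eq (show k - 4 ≤ W.card by omega)
    obtain ⟨a, b, c, d, hn, ha, hb, hc', hd⟩ := exists_four (s := W \ U) (by
      rw [card_sdiff_of_subset hUW]; omega)
    simp only [mem_sdiff] at ha hb hc' hd
    let β := SubMulAction.ofFixingSubgroup G (U : Set α)
    letI : Fintype β := Fintype.ofFinite _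
    have h4 : IsMultiplyPretransitive (fixingSubgroup G (U : Set α)) β 4 := by
      haveI := htr
      exact SubMulAction.ofFixingSubgroup.isMultiplyPretransitive G (n := k) (U : Set α)
        (by rw [Set.ncard_coe_finset, hU]; omega)
    have hmemβ : ∀ x, x ∈ β ↔ x ∉ U := fun x => by
      rw [SubMulAction.mem_ofFixingSubgroup_iff, mem_coe]
    have hcardβ : Fintype.card β = Fintype.card α - (k - 4) := by
      rw [← hU, ← card_compl, ← Fintype.card_coe]
      exact Fintype.card_congr (Equiv.subtypeEquivRight fun x => by rw [mem_compl]; exact hmemβ x)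
    have hfive : ∀ g : fixingSubgroup G (U : Set α), g ≠ 1 → (fixSet g : Finset β).card ≤ 4 := by
      intro g hg
      have hle : (fixSet g : Finset β).card + U.card ≤ k := by
        rw [← card_map (Function.Embedding.subtype _), ← card_union_of_disjoint (disjoint_left.2
          fun x hx hx' => by
            obtain ⟨y, -, rfl⟩ := mem_map.1 hx
            exact (hmemβ _).1 y.2 hx')]
        refine (card_le_card fun x hx => ?_).trans (hsm ((g : G) : Equiv.Perm α) (g : G).2
          fun e => hg (Subtype.ext (Subtype.ext e)))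
        rw [mem_fixSet]
        rcases mem_union.1 hx with h1 | h1
        · obtain ⟨y, hy, rfl⟩ := mem_map.1 h1
          rw [mem_fixSet] at hy
          exact congrArg Subtype.val hy
        · exact (mem_fixingSubgroup_iff G).1 g.2 x h1
      omega
    let a' : β := ⟨a, (hmemβ a).2 ha.2⟩
    let b' : β := ⟨b, (hmemβ b).2 hb.2⟩
    let c' : β := ⟨c, (hmemβ c).2 hc'.2⟩
    let d' : β := ⟨d, (hmemβ d).2 hd.2⟩
    have hn' : [a', b', c', d'].Nodup := by
      refine (List.nodup_map_iff (f := Subtype.val) Subtype.val_injective).1 ?_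
      simpa [a', b', c', d'] using hn
    have hWeq : W = U ∪ [a, b, c, d].toFinset := by
      refine (eq_of_subset_of_card_le ?_ ?_).symm
      · refine union_subset hUW fun x hx => ?_
        simp only [List.mem_toFinset, List.mem_cons, List.not_mem_nil, or_false] at hx
        rcases hx with rfl | rfl | rfl | rfl
        exacts [ha.1, hb.1, hc'.1, hd.1]
      · rw [card_union_of_disjoint, List.toFinset_card_of_nodup hn, hU, hW]
        · simp; omega
        · rw [disjoint_left]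
          intro x hx hx'
          simp only [List.mem_toFinset, List.mem_cons, List.not_mem_nil, or_false] at hx'
          rcases hx' with rfl | rfl | rfl | rfl
          exacts [ha.2 hx, hb.2 hx, hc'.2 hx, hd.2 hx]
    rcases semiregular_four h4 hfive (by omega) hn' with h | ⟨hT, h6⟩
    · left
      intro p q hp hq
      have hout : ∀ r, r ∉ W → r ∉ U ∧ r ≠ a ∧ r ≠ b ∧ r ≠ c ∧ r ≠ d := fun r hr =>
        ⟨fun e => hr (hUW e), fun e => hr (e ▸ ha.1), fun e => hr (e ▸ hb.1), fun e => hr (e ▸ hc'.1),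
          fun e => hr (e ▸ hd.1)⟩
      obtain ⟨g, g1, g2, g3, g4, g5⟩ := h ⟨p, (hmemβ p).2 (hout p hp).1⟩ ⟨q, (hmemβ q).2 (hout q hq).1⟩
        (by simp [a', b', c', d', Subtype.ext_iff, (hout p hp).2])
        (by simp [a', b', c', d', Subtype.ext_iff, (hout q hq).2])
      refine ⟨((g : G) : Equiv.Perm α), (g : G).2, fun x hx => ?_, congrArg Subtype.val g5⟩
      rw [hWeq, mem_union] at hx
      rcases hx with hx | hx
      · exact (mem_fixingSubgroup_iff G).1 g.2 x hx
      simp only [List.mem_toFinset, List.mem_cons, List.not_mem_nil, or_false] at hx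
      rcases hx with rfl | rfl | rfl | rfl
      exacts [congrArg Subtype.val g1, congrArg Subtype.val g2, congrArg Subtype.val g3,
        congrArg Subtype.val g4]
    · refine Or.inr ⟨by omega, fun g hg hgW => ?_⟩
      have hgU : (⟨g, hg⟩ : G) ∈ fixingSubgroup G (U : Set α) :=
        (mem_fixingSubgroup_iff G).2 fun x hx => hgW x (hUW hx)
      have : (⟨⟨g, hg⟩, hgU⟩ : fixingSubgroup G (U : Set α)) ∈ T4 _ a' b' c' d' :=
        mem_T4.2 ⟨Subtype.ext (hgW a ha.1), Subtype.ext (hgW b hb.1), Subtype.ext (hgW c hc'.1),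
          Subtype.ext (hgW d hd.1)⟩
      rw [hT, Subgroup.mem_bot] at this
      exact congrArg (fun x : fixingSubgroup G (U : Set α) => ((x : G) : Equiv.Perm α)) this
  by_cases hex : ∃ W : Finset α, W.card = k ∧ ∀ g ∈ G, (∀ x ∈ W, g x = x) → g = 1
  · obtain ⟨W, hW, hW1⟩ := hex
    have hn7 : Fintype.card α = k + 7 := by
      rcases hfour W hW with h | h
      · exfalso
        obtain ⟨p, hp⟩ := card_pos.1 (show 0 < Wᶜ.card by rw [card_compl]; omega)
        obtain ⟨q, hq, hne⟩ := exists_mem_ne (show 1 < Wᶜ.card by rw [card_compl]; omega) p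
        rw [mem_compl] at hp hq
        obtain ⟨g, hg, hgW, hgp⟩ := h p q hp hq
        rw [hW1 g hg hgW] at hgp
        exact hne (hgp.symm.trans rfl)
      · exact h.1
    refine exists_good_sharp hk htr hn7 hsm fun s hs g hg hgs => ?_
    obtain ⟨r, hr⟩ := exists_smul_of_nodup htr s.nodup_toList W.nodup_toList
      (by rw [length_toList, hs]) (by rw [length_toList, hW])
    have hconj := hW1 ((r : Equiv.Perm α) * g * (r : Equiv.Perm α)⁻¹)
      (G.mul_mem (G.mul_mem r.2 hg) (G.inv_mem r.2)) fun x hx => by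
      rw [← mem_toList, ← hr, List.mem_map] at hx
      obtain ⟨y, hy, rfl⟩ := hx
      change (r : Equiv.Perm α) (g ((r : Equiv.Perm α)⁻¹ ((r : Equiv.Perm α) y))) = (r : Equiv.Perm α) y
      rw [Equiv.Perm.inv_def, Equiv.symm_apply_apply, hgs y (mem_toList.1 hy)]
    exact conj_eq_one_iff.1 hconj
  · push Not at hex
    have hsucc : IsMultiplyPretransitive G α (k + 1) := by
      refine CfsgLib.Perm.isMultiplyPretransitive_of_fixing (by omega) fun T hT p q hp hq => ?_
      rcases hfour T (by omega) with h | h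
      · obtain ⟨g, hg, hgT, hgp⟩ := h p q hp hq
        exact ⟨⟨g, hg⟩, hgT, hgp⟩
      · obtain ⟨g, hg, hgT, hg1⟩ := hex T (by omega)
        exact absurd (h.2 g hg hgT) hg1
    exact ⟨Δ, hΔ, le_top.trans (inducedPerms_eq_top hsucc hΔ).ge⟩

/-- A set of fixed points of a subgroup. -/
noncomputable def fixF (Q : Subgroup (Equiv.Perm α)) : Finset α := by
  classical exact univ.filter fun x => ∀ q ∈ Q, q x = x

theorem mem_fixF {Q : Subgroup (Equiv.Perm α)} {x : α} : x ∈ fixF Q ↔ ∀ q ∈ Q, q x = x := by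
  classical simp [fixF]

theorem normalizer_maps_fixF {Q : Subgroup (Equiv.Perm α)} {g : Equiv.Perm α}
    (hg : g ∈ Subgroup.normalizer (Q : Set (Equiv.Perm α))) (x : α) : g x ∈ fixF Q ↔ x ∈ fixF Q := by
  simp only [mem_fixF]
  constructor
  · intro h q hq
    have := h _ ((Subgroup.mem_normalizer_iff.1 hg q).1 hq)
    simpa using this
  · intro h q hq
    have hq' : g⁻¹ * q * g ∈ Q := by
      rw [Subgroup.mem_normalizer_iff.1 hg]
      simpa [mul_assoc] using hq
    have := h _ hq'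
    rwa [Equiv.Perm.mul_apply, Equiv.Perm.mul_apply, Equiv.Perm.inv_def, Equiv.symm_apply_eq] at this

/-- **Livingstone–Wagner**: some `(k+1)`-set carries its alternating group. -/
theorem exists_good : ∀ (n : ℕ) {α : Type u} [Fintype α] [DecidableEq α]
    (G : Subgroup (Equiv.Perm α)) {k : ℕ}, Fintype.card α = n → 4 ≤ k → k < n →
    IsMultiplyPretransitive G α k →
    ∃ Δ : Finset α, Δ.card = k + 1 ∧ alternatingGroup ↥Δ ≤ inducedPerms G Δ := by
  intro n
  induction n using Nat.strong_induction_on with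
  | _ n ih => ?_
  intro α _ _ G k hn hk hkn htr
  classical
  by_cases hsm : ∀ g ∈ G, g ≠ 1 → (fixSet g : Finset α).card ≤ k
  · exact exists_good_semiregular G hk (hn ▸ hkn) htr hsm
  push Not at hsm
  obtain ⟨g, hg, hg1, hgk⟩ := hsm
  have hord : orderOf g ≠ 1 := fun e => hg1 (orderOf_eq_one_iff.1 e)
  set p := (orderOf g).minFac with hpdef
  have hp : p.Prime := Nat.minFac_prime hord
  haveI : Fact p.Prime := ⟨hp⟩
  set g₁ := g ^ (orderOf g / p)
  have hg₁ : orderOf g₁ = p := orderOf_pow_orderOf_div (orderOf_pos g).ne' (Nat.minFac_dvd _)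
  letI : Fintype (Subgroup (Equiv.Perm α)) := Fintype.ofFinite _
  set Fam := (univ : Finset (Subgroup (Equiv.Perm α))).filter
    fun Q => Q ≤ G ∧ IsPGroup p Q ∧ k < (fixF Q).card with hFam
  have hmem₁ : Subgroup.zpowers g₁ ∈ Fam := by
    simp only [hFam, mem_filter, mem_univ, true_and]
    refine ⟨Subgroup.zpowers_le.2 (G.pow_mem hg _),
      IsPGroup.of_card (n := 1) (by rw [Nat.card_zpowers, hg₁, pow_one]), hgk.trans_le ?_⟩
    refine card_le_card fun x hx => mem_fixF.2 fun q hq => ?_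
    rw [mem_fixSet, Equiv.Perm.smul_def] at hx
    obtain ⟨i, rfl⟩ := hq
    exact Equiv.Perm.zpow_apply_eq_self_of_apply_eq_self (Equiv.Perm.pow_apply_eq_self_of_apply_eq_self hx _) i
  have hne : Fam.Nonempty := ⟨_, hmem₁⟩
  obtain ⟨Q, hQ, hmax⟩ := exists_max_image Fam (fun Q => Nat.card Q) hne
  simp only [hFam, mem_filter, mem_univ, true_and] at hQ hmax
  obtain ⟨hQG, hQp, hQk⟩ := hQ
  have hQ1 : Q ≠ ⊥ := by
    intro e
    have := hmax (Subgroup.zpowers g₁) (by simpa [hFam] using hmem₁)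
    rw [e, Subgroup.card_bot, Nat.card_zpowers, hg₁] at this
    exact absurd this (not_le.2 hp.one_lt)
  set F := fixF Q with hF
  have hFlt : F.card < n := by
    rw [← hn, ← card_univ]
    refine card_lt_card (ssubset_univ_iff.2 fun e => hQ1 ((Subgroup.eq_bot_iff_forall Q).2 fun q hq => ?_))
    exact Equiv.ext fun x => mem_fixF.1 (e.ge (mem_univ x)) q hq
  set N := G ⊓ Subgroup.normalizer (Q : Set (Equiv.Perm α)) with hN
  set M := inducedPerms N F with hM
  -- the stabilisers of `k`-sets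
  let T : Finset α → Subgroup (Equiv.Perm α) := fun s => G ⊓ fixingSubgroup (Equiv.Perm α) (s : Set α)
  have memT : ∀ s q, q ∈ T s ↔ q ∈ G ∧ ∀ x ∈ s, q x = x := fun s q => by
    simp only [T, Subgroup.mem_inf, mem_fixingSubgroup_iff]; rfl
  have hTcard : ∀ s s' : Finset α, s.card = k → s'.card = k → Nat.card (T s) = Nat.card (T s') := by
    intro s s' hs hs'
    have hle : ∀ u v : Finset α, u.card = k → v.card = k → Nat.card (T u) ≤ Nat.card (T v) := by
      intro u v hu hv
      obtain ⟨r, hr⟩ := exists_smul_of_nodup htr u.nodup_toList v.nodup_toList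
        (by rw [length_toList, hu]) (by rw [length_toList, hv])
      refine Nat.card_le_card_of_injective (fun q : T u => (⟨(r : Equiv.Perm α) * q * (r : Equiv.Perm α)⁻¹, ?_⟩ : T v))
        fun q q' h => Subtype.ext (mul_left_cancel (mul_right_cancel (congrArg Subtype.val h)))
      obtain ⟨hq1, hq2⟩ := (memT u _).1 q.2
      refine (memT v _).2 ⟨G.mul_mem (G.mul_mem r.2 hq1) (G.inv_mem r.2), fun x hx => ?_⟩
      rw [← mem_toList, ← hr, List.mem_map] at hx
      obtain ⟨y, hy, rfl⟩ := hx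
      change (r : Equiv.Perm α) ((q : Equiv.Perm α) ((r : Equiv.Perm α)⁻¹ ((r : Equiv.Perm α) y))) = (r : Equiv.Perm α) y
      rw [Equiv.Perm.inv_def, Equiv.symm_apply_apply, hq2 y (mem_toList.1 hy)]
    exact le_antisymm (hle s s' hs hs') (hle s' s hs' hs)
  have hQT : ∀ s : Finset α, s ⊆ F → Q ≤ T s := fun s hs q hq =>
    (memT s q).2 ⟨hQG hq, fun x hx => mem_fixF.1 (hs hx) q hq⟩
  obtain ⟨s₀, hs₀, hs₀k⟩ := exists_subset_card_eq (show k ≤ F.card by omega)
  set e := (Nat.card (T s₀)).factorization p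
  have hMtr : IsMultiplyPretransitive M ↥F k := by
    by_cases hfull : Nat.card Q = p ^ e
    · -- Witt's lemma
      rw [isMultiplyPretransitive_iff]
      intro x y
      obtain ⟨r, hr⟩ := htr.exists_smul_eq (x.trans (Function.Embedding.subtype _))
        (y.trans (Function.Embedding.subtype _))
      have hri : ∀ i, (r : Equiv.Perm α) (x i) = y i := fun i => DFunLike.congr_fun hr i
      set s := univ.image fun i => (y i : α) with hsdef
      have hs : s.card = k := by
        rw [hsdef, card_image_of_injective _ (fun i j e => y.injective (Subtype.ext e)), card_univ, Fintype.card_fin]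
      have hsF : s ⊆ F := fun z hz => by
        obtain ⟨i, -, rfl⟩ := mem_image.1 hz
        exact (y i).2
      set Q' := Q.map (MulAut.conj (r : Equiv.Perm α)).toMonoidHom with hQ'
      have hQ'T : Q' ≤ T s := by
        rintro _ ⟨q, hq, rfl⟩
        refine (memT s _).2 ⟨G.mul_mem (G.mul_mem r.2 (hQG hq)) (G.inv_mem r.2), fun z hz => ?_⟩
        obtain ⟨i, -, rfl⟩ := mem_image.1 hz
        change (r : Equiv.Perm α) (q ((r : Equiv.Perm α)⁻¹ (y i : α))) = y i
        rw [← hri i, Equiv.Perm.inv_def, Equiv.symm_apply_apply, mem_fixF.1 (x i).2 q hq]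
      have he : (Nat.card (T s)).factorization p = e := by rw [hTcard s s₀ hs hs₀k]
      have hc1 : Nat.card ((Q').subgroupOf (T s)) = p ^ (Nat.card (T s)).factorization p := by
        rw [Nat.card_congr (Subgroup.subgroupOfEquivOfLe hQ'T).toEquiv, hQ', he, ← hfull]
        exact (Nat.card_congr (Q.equivMapOfInjective _ (MulAut.conj (r : Equiv.Perm α)).injective).toEquiv).symm
      have hc2 : Nat.card (Q.subgroupOf (T s)) = p ^ (Nat.card (T s)).factorization p := by
        rw [Nat.card_congr (Subgroup.subgroupOfEquivOfLe (hQT s hsF)).toEquiv, hfull, he]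
      obtain ⟨τ, hτ⟩ := exists_smul_eq (T s) (Sylow.ofCard _ hc1) (Sylow.ofCard _ hc2)
      have hτ' := congrArg (fun P : Sylow p (T s) => (P : Subgroup (T s))) hτ
      simp only [Sylow.coe_subgroup_smul, Sylow.coe_ofCard] at hτ'
      set r' := (τ : Equiv.Perm α) * (r : Equiv.Perm α) with hr'
      have hτG := (memT s _).1 τ.2
      have hr'N : r' ∈ Subgroup.normalizer (Q : Set (Equiv.Perm α)) := by
        rw [Subgroup.mem_normalizer_iff_map_conj_eq]
        refine Subgroup.eq_of_le_of_card_ge ?_ (le_of_eq (Nat.card_congr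
          (Q.equivMapOfInjective _ (MulAut.conj r').injective).toEquiv))
        rintro _ ⟨q, hq, rfl⟩
        have hm : (⟨(r : Equiv.Perm α) * q * (r : Equiv.Perm α)⁻¹, hQ'T ⟨q, hq, rfl⟩⟩ : T s) ∈
            Q'.subgroupOf (T s) := Subgroup.mem_subgroupOf.2 ⟨q, hq, rfl⟩
        have := Subgroup.smul_mem_pointwise_smul _ (MulAut.conj τ) _ hm
        rw [hτ', Subgroup.mem_subgroupOf] at this
        simpa [r', mul_assoc] using this
      have hr'mem : r' ∈ N := ⟨G.mul_mem hτG.1 r.2, hr'N⟩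
      refine ⟨⟨r'.subtypePerm (normalizer_maps_fixF hr'N), r', hr'mem, fun z => rfl⟩, ?_⟩
      ext i
      change r' (x i : α) = y i
      rw [hr', Equiv.Perm.mul_apply, hri]
      exact hτG.2 _ (mem_image.2 ⟨i, mem_univ _, rfl⟩)
    · -- every `k`-subset is the fixed point set of a `p`-subgroup
      refine Cfsg.Agent.S0743.result M hp (by omega) (by rw [Fintype.card_coe]; omega) fun s hs => ?_
      set s' := s.map (Function.Embedding.subtype _) with hs'
      have hs'F : s' ⊆ F := fun z hz => by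
        obtain ⟨w, -, rfl⟩ := mem_map.1 hz
        exact w.2
      have hs'k : s'.card = k := by rw [hs', card_map, hs]
      obtain ⟨P, hP⟩ := IsPGroup.exists_le_sylow
        (hQp.comap_of_injective (T s').subtype (T s').subtype_injective : IsPGroup p (Q.subgroupOf (T s')))
      set P' := (P : Subgroup (T s')).map (T s').subtype with hP'
      have hQP' : Q ≤ P' := fun q hq => ⟨⟨q, hQT s' hs'F hq⟩, hP (Subgroup.mem_subgroupOf.2 hq), rfl⟩
      have hP'p : IsPGroup p P' := P.isPGroup'.map _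
      have hP'card : Nat.card P' = p ^ e := by
        rw [← Nat.card_congr ((P : Subgroup (T s')).equivMapOfInjective _ (T s').subtype_injective).toEquiv,
          Sylow.card_eq_multiplicity, hTcard s' s₀ hs'k hs₀k]
      have hlt : Q.subgroupOf P' < ⊤ := by
        refine lt_top_iff_ne_top.2 fun htop => hfull ?_
        rw [← hP'card, ← Nat.card_congr (Subgroup.subgroupOfEquivOfLe hQP').toEquiv, htop, Subgroup.card_top]
      haveI := hP'p.isNilpotent
      obtain ⟨⟨r, hrP⟩, hr1, hr2⟩ := SetLike.exists_of_lt (normalizerCondition_of_isNilpotent _ hlt)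
      have hrN : r ∈ Subgroup.normalizer (Q : Set (Equiv.Perm α)) := by
        rw [Subgroup.mem_normalizer_iff]
        intro q
        constructor
        · intro hq
          have := (Subgroup.mem_normalizer_iff.1 hr1 ⟨q, hQP' hq⟩).1 (Subgroup.mem_subgroupOf.2 hq)
          simpa [Subgroup.mem_subgroupOf] using this
        · intro hq
          have hqP : q ∈ P' := by
            have := P'.mul_mem (P'.mul_mem (P'.inv_mem hrP) (hQP' hq)) hrP
            simpa [mul_assoc] using this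
          have := (Subgroup.mem_normalizer_iff.1 hr1 ⟨q, hqP⟩).2 (Subgroup.mem_subgroupOf.2 (by simpa using hq))
          simpa [Subgroup.mem_subgroupOf] using this
      set R := P' ⊓ Subgroup.normalizer (Q : Set (Equiv.Perm α)) with hR
      have hP'T : P' ≤ T s' := Subgroup.map_subtype_le _
      have hRN : R ≤ N := fun q hq => ⟨((memT s' q).1 (hP'T hq.1)).1, hq.2⟩
      have hRbig : Nat.card Q < Nat.card R := by
        have hQR : Q ≤ R := le_inf hQP' Subgroup.le_normalizer
        by_contra hle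
        have := Subgroup.eq_of_le_of_card_ge hQR (not_lt.1 hle)
        exact hr2 (Subgroup.mem_subgroupOf.2 (this.ge ⟨hrP, hrN⟩))
      have hRfix : fixF R = s' := by
        refine (eq_of_subset_of_card_le (fun z hz => mem_fixF.2 fun q (hq : q ∈ R) => ((memT s' q).1 (hP'T hq.1)).2 z hz) ?_).symm
        rw [hs'k]
        by_contra hlt'
        exact absurd (hmax R ⟨hRN.trans inf_le_left, hP'p.to_le inf_le_left, not_le.1 hlt'⟩) (not_le.2 hRbig)
      refine ⟨(inducedPerms R F).subgroupOf M, ?_, ?_⟩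
      · rintro ⟨⟨σ, hσ⟩, hm⟩
        obtain ⟨q, hq, hqσ⟩ := Subgroup.mem_subgroupOf.1 hm
        obtain ⟨m, hm'⟩ := (hP'p.to_le (inf_le_left : R ≤ P')) ⟨q, hq⟩
        refine ⟨m, Subtype.ext (Subtype.ext (Equiv.ext fun z => Subtype.ext ?_))⟩
        have hpow : ∀ j : ℕ, ((σ ^ j) z : α) = (q ^ j) z := by
          intro j
          induction j with
          | zero => rfl
          | succ j ihj => rw [pow_succ', pow_succ', Equiv.Perm.mul_apply, Equiv.Perm.mul_apply, ← ihj, hqσ]
        have hq1 : q ^ p ^ m = 1 := congrArg Subtype.val hm'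
        change ((σ ^ p ^ m) z : α) = z
        rw [hpow, hq1]
        rfl
      · ext z
        rw [mem_fixedPoints, mem_coe]
        constructor
        · intro hz
          have hz' : (z : α) ∈ fixF R := mem_fixF.2 fun q hq => by
            have hσ : q.subtypePerm (normalizer_maps_fixF (hq.2)) ∈ inducedPerms R F := ⟨q, hq, fun _ => rfl⟩
            have hσM : q.subtypePerm (normalizer_maps_fixF (hq.2)) ∈ M := ⟨q, hRN hq, fun _ => rfl⟩
            exact congrArg Subtype.val (hz ⟨⟨_, hσM⟩, Subgroup.mem_subgroupOf.2 hσ⟩)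
          rw [hRfix, hs', mem_map] at hz'
          obtain ⟨w, hw, hwz⟩ := hz'
          rwa [← Subtype.ext hwz]
        · rintro hz ⟨⟨σ, hσ⟩, hm⟩
          obtain ⟨q, hq, hqσ⟩ := Subgroup.mem_subgroupOf.1 hm
          refine Subtype.ext ((hqσ z).symm.trans ?_)
          exact mem_fixF.1 (hRfix.ge (mem_map_of_mem _ hz)) q hq
  obtain ⟨Δ, hΔk, hΔ⟩ := ih F.card hFlt M (Fintype.card_coe F) hk hQk hMtr
  set Δ' := Δ.map (Function.Embedding.subtype _) with hΔ'
  refine ⟨Δ', by rw [hΔ', card_map, hΔk], fun σ hσ => ?_⟩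
  let ee : ↥Δ ≃ ↥Δ' := Equiv.ofBijective (fun x => ⟨(x.1 : α), mem_map_of_mem _ x.2⟩)
    ⟨fun x y h => Subtype.ext (Subtype.ext (by simpa using congrArg Subtype.val h)), fun y => by
      obtain ⟨w, hw, hwy⟩ := mem_map.1 y.2
      exact ⟨⟨w, hw⟩, Subtype.ext hwy⟩⟩
  have hmem : ee.symm.permCongr σ ∈ alternatingGroup ↥Δ := by
    rw [Equiv.Perm.mem_alternatingGroup, Equiv.Perm.sign_permCongr]
    exact Equiv.Perm.mem_alternatingGroup.1 hσ
  obtain ⟨τ, hτ, hτσ⟩ := hΔ hmem
  obtain ⟨q, hq, hqτ⟩ := hτ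
  refine ⟨q, hq.1, fun x => ?_⟩
  have h1 := hτσ (ee.symm x)
  rw [Equiv.permCongr_apply, Equiv.symm_symm, Equiv.apply_symm_apply] at h1
  have h2 := hqτ (ee.symm x).1
  rw [h1] at h2
  have hx : ((ee.symm x).1 : α) = x := congrArg Subtype.val (ee.apply_symm_apply x)
  have hy : ((ee.symm (σ x)).1 : α) = σ x := congrArg Subtype.val (ee.apply_symm_apply (σ x))
  rw [hx, hy] at h2
  exact h2

end Main

end CfsgLib.Perm.LW
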