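import Cfsg.Agent.Lib.Perm.LW.AltSet
import Cfsg.Agent.Lib.Coprime.Action2

/-!
An `r`-transitive, `(r+1)`-homogeneous group with `r ≥ 4` and at least three further points is
`(r+1)`-transitive.
-/

set_option autoImplicit false
set_option linter.unusedSectionVars false

namespace CfsgLib.Perm.LW

open MulAction Finset

section Transport

variable {α : Type*} [Fintype α] [DecidableEq α] {G : Subgroup (Equiv.Perm α)}

/-- `k`-homogeneity, in terms of finite sets. -/
def Homog (G : Subgroup (Equiv.Perm α)) (k : ℕ) : Prop :=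
  ∀ B C : Finset α, B.card = k → C.card = k → ∃ g ∈ G, B.image g = C

/-- Induced even permutations pass between the translates of a set. -/
theorem induced_alt_transport {B C : Finset α} {g : Equiv.Perm α} (hg : g ∈ G) (hBC : B.image g = C)
    (h : alternatingGroup ↥B ≤ inducedPerms G B) : alternatingGroup ↥C ≤ inducedPerms G C := by
  intro σ hσ
  have hm : ∀ x : ↥B, g x ∈ C := fun x => hBC ▸ mem_image_of_mem g x.2
  let e : ↥B ≃ ↥C := Equiv.ofBijective (fun x => ⟨g x, hm x⟩)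
    ⟨fun x y h => Subtype.ext (g.injective (congrArg Subtype.val h)), fun y => by
      obtain ⟨x, hx, hxy⟩ := mem_image.1 (hBC ▸ y.2 : (y : α) ∈ B.image g)
      exact ⟨⟨x, hx⟩, Subtype.ext hxy⟩⟩
  obtain ⟨q, hq, hqσ⟩ := h (show e.symm.permCongr σ ∈ alternatingGroup ↥B by
    rw [Equiv.Perm.mem_alternatingGroup, Equiv.Perm.sign_permCongr]
    exact Equiv.Perm.mem_alternatingGroup.1 hσ)
  refine ⟨g * q * g⁻¹, G.mul_mem (G.mul_mem hg hq) (G.inv_mem hg), fun y => ?_⟩
  have h1 := hqσ (e.symm y)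
  rw [Equiv.permCongr_apply, Equiv.symm_symm, Equiv.apply_symm_apply] at h1
  have hy : ∀ z : ↥C, g (e.symm z : α) = z := fun z => congrArg Subtype.val (e.apply_symm_apply z)
  rw [Equiv.Perm.mul_apply, Equiv.Perm.mul_apply, Equiv.Perm.inv_def,
    (Equiv.symm_apply_eq g).2 (hy y).symm, h1, hy]

/-- Homogeneity with symmetric induced groups gives transitivity. -/
theorem trans_of_induced_top {k : ℕ} (hhom : Homog G k)
    (htop : ∀ C : Finset α, C.card = k → inducedPerms G C = ⊤) :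
    IsMultiplyPretransitive G α k := by
  rw [isMultiplyPretransitive_iff]
  intro x y
  obtain ⟨g, hg, hBC⟩ := hhom (univ.image x) (univ.image y)
    (by rw [card_image_of_injective _ x.injective, card_univ, Fintype.card_fin])
    (by rw [card_image_of_injective _ y.injective, card_univ, Fintype.card_fin])
  have hC : (univ.image y).card = k := by
    rw [card_image_of_injective _ y.injective, card_univ, Fintype.card_fin]
  have hx : ∀ i, g (x i) ∈ univ.image y := fun i => hBC ▸ mem_image_of_mem g (mem_image_of_mem x (mem_univ i))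
  let ex : Fin k ≃ ↥(univ.image y) := Equiv.ofBijective (fun i => ⟨g (x i), hx i⟩)
    ((Fintype.bijective_iff_injective_and_card _).2
      ⟨fun i j h => x.injective (g.injective (congrArg Subtype.val h)),
        by rw [Fintype.card_coe, hC, Fintype.card_fin]⟩)
  let ey : Fin k ≃ ↥(univ.image y) := Equiv.ofBijective (fun i => ⟨y i, mem_image_of_mem y (mem_univ i)⟩)
    ((Fintype.bijective_iff_injective_and_card _).2
      ⟨fun i j h => y.injective (congrArg Subtype.val h), by rw [Fintype.card_coe, hC, Fintype.card_fin]⟩)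
  obtain ⟨q, hq, hqσ⟩ := (htop _ hC).ge (Subgroup.mem_top (ex.symm.trans ey))
  refine ⟨⟨q * g, G.mul_mem hq hg⟩, ?_⟩
  ext i
  have h := hqσ (ex i)
  rw [Equiv.trans_apply, Equiv.symm_apply_apply] at h
  exact h

theorem inducedPerms_top_of_odd {C : Finset α} (h : alternatingGroup ↥C ≤ inducedPerms G C)
    {σ : Equiv.Perm ↥C} (hσ : σ ∈ inducedPerms G C) (hodd : σ ∉ alternatingGroup ↥C) :
    inducedPerms G C = ⊤ := by
  refine eq_top_iff.2 fun τ _ => ?_
  by_cases hτ : τ ∈ alternatingGroup ↥C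
  · exact h hτ
  · have hmem : τ * σ⁻¹ ∈ alternatingGroup ↥C := by
      rw [Equiv.Perm.mem_alternatingGroup] at hodd hτ ⊢
      rw [map_mul, map_inv, (Int.units_eq_one_or _).resolve_left hτ,
        (Int.units_eq_one_or _).resolve_left hodd]
      decide
    simpa using mul_mem (h hmem) hσ

end Transport

section Main

variable {α : Type*} [Fintype α] [DecidableEq α]

/-- `q` interchanges `a`, `b` and `c`, `d` and fixes the other points of `W`. -/
def IsDoubleOn (q : Equiv.Perm α) (W : Finset α) (a b c d : α) : Prop :=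
  q a = b ∧ q b = a ∧ q c = d ∧ q d = c ∧ ∀ z ∈ W, z ≠ a → z ≠ b → z ≠ c → z ≠ d → q z = z

theorem IsDoubleOn.flip {q : Equiv.Perm α} {W : Finset α} {a b c d : α}
    (h : IsDoubleOn q W a b c d) : IsDoubleOn q W c d a b :=
  ⟨h.2.2.1, h.2.2.2.1, h.1, h.2.1, fun z hz n1 n2 n3 n4 => h.2.2.2.2 z hz n3 n4 n1 n2⟩

/-- The main extension step. -/
theorem succ_transitive (G : Subgroup (Equiv.Perm α)) {r : ℕ} (hr : 4 ≤ r)
    (hn : r + 3 ≤ Fintype.card α) (htr : IsMultiplyPretransitive G α r) (hhom : Homog G (r + 1)) :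
    IsMultiplyPretransitive G α (r + 1) := by
  classical
  obtain ⟨Δ₀, hΔ₀, halt₀⟩ := exists_good _ G rfl hr (by omega) htr
  have halt : ∀ C : Finset α, C.card = r + 1 → alternatingGroup ↥C ≤ inducedPerms G C := fun C hC => by
    obtain ⟨g, hg, hgC⟩ := hhom Δ₀ C hΔ₀ hC
    exact induced_alt_transport hg hgC halt₀
  by_cases hodd : ∃ C : Finset α, C.card = r + 1 ∧ inducedPerms G C = ⊤
  · obtain ⟨B, hB, hBtop⟩ := hodd
    refine trans_of_induced_top hhom fun C hC => ?_
    obtain ⟨g, hg, hgC⟩ := hhom B C hB hC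
    obtain ⟨p, hp, q, hq, hpq⟩ := one_lt_card.1 (show 1 < B.card by omega)
    obtain ⟨h, hh, hhσ⟩ := hBtop.ge (Subgroup.mem_top (Equiv.swap (⟨p, hp⟩ : ↥B) ⟨q, hq⟩))
    have hgp : g p ∈ C := hgC ▸ mem_image_of_mem g hp
    have hgq : g q ∈ C := hgC ▸ mem_image_of_mem g hq
    refine inducedPerms_top_of_odd (halt C hC) (σ := Equiv.swap ⟨g p, hgp⟩ ⟨g q, hgq⟩)
      ⟨g * h * g⁻¹, G.mul_mem (G.mul_mem hg hh) (G.inv_mem hg), fun z => ?_⟩ ?_
    · obtain ⟨w, hw, hwz⟩ := mem_image.1 (hgC ▸ z.2 : (z : α) ∈ B.image g)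
      rw [Equiv.Perm.mul_apply, Equiv.Perm.mul_apply, ← hwz, Equiv.Perm.inv_def, Equiv.symm_apply_apply,
        hhσ ⟨w, hw⟩]
      rcases eq_or_ne w p with rfl | h1
      · rw [Equiv.swap_apply_left, show z = ⟨g w, hgp⟩ from Subtype.ext hwz.symm, Equiv.swap_apply_left]
      rcases eq_or_ne w q with rfl | h2
      · rw [Equiv.swap_apply_right, show z = ⟨g w, hgq⟩ from Subtype.ext hwz.symm, Equiv.swap_apply_right]
      rw [Equiv.swap_apply_of_ne_of_ne (by simpa using h1) (by simpa using h2),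
        Equiv.swap_apply_of_ne_of_ne (fun e => h1 (g.injective (hwz.trans (congrArg Subtype.val e))))
          (fun e => h2 (g.injective (hwz.trans (congrArg Subtype.val e))))]
      exact hwz
    · rw [Equiv.Perm.mem_alternatingGroup, Equiv.Perm.sign_swap (fun e => hpq (g.injective (congrArg Subtype.val e)))]
      decide
  push Not at hodd
  have hev : ∀ C : Finset α, C.card = r + 1 → ∀ σ ∈ inducedPerms G C, σ ∈ alternatingGroup ↥C :=
    fun C hC σ hσ => by_contra fun h => hodd C hC (inducedPerms_top_of_odd (halt C hC) hσ h)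
  -- involutions fix few points
  have hinv : ∀ z ∈ G, z * z = 1 → z ≠ 1 → (fixSet z : Finset α).card ≤ r - 2 := by
    intro z hz hzz hz1
    by_contra hlt
    obtain ⟨S, hS, hSc⟩ := exists_subset_card_eq (show r - 1 ≤ (fixSet z : Finset α).card by omega)
    obtain ⟨p, hp⟩ : ∃ p, z p ≠ p := by
      by_contra hall
      push Not at hall
      exact hz1 (Equiv.ext hall)
    have hzp : z (z p) = p := by rw [← Equiv.Perm.mul_apply, hzz]; rfl
    have hfix : ∀ s ∈ S, z s = s := fun s hs => mem_fixSet.1 (hS hs)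
    have hpS : p ∉ S := fun h => hp (hfix p h)
    have hzpS : z p ∉ S := fun h => hp (z.injective (hfix _ h))
    set C := insert p (insert (z p) S)
    have hC : C.card = r + 1 := by
      rw [card_insert_of_notMem (by simp [Ne.symm hp, hpS]), card_insert_of_notMem hzpS, hSc]
      omega
    have hpC : p ∈ C := mem_insert_self _ _
    have hzpC : z p ∈ C := mem_insert_of_mem (mem_insert_self _ _)
    have hmem : Equiv.swap (⟨p, hpC⟩ : ↥C) ⟨z p, hzpC⟩ ∈ inducedPerms G C := by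
      refine ⟨z, hz, fun x => ?_⟩
      rcases eq_or_ne x ⟨p, hpC⟩ with rfl | h1
      · rw [Equiv.swap_apply_left]
      rcases eq_or_ne x ⟨z p, hzpC⟩ with rfl | h2
      · rw [Equiv.swap_apply_right]; exact hzp
      rw [Equiv.swap_apply_of_ne_of_ne h1 h2]
      have hx := x.2
      simp only [C, mem_insert] at hx
      rcases hx with hx | hx | hx
      · exact absurd (Subtype.ext hx) h1
      · exact absurd (Subtype.ext hx) h2
      · exact hfix _ hx
    have := hev C hC _ hmem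
    rw [Equiv.Perm.mem_alternatingGroup,
      Equiv.Perm.sign_swap (fun e => hp (congrArg Subtype.val e).symm)] at this
    exact absurd this (by decide)
  by_contra hnot
  -- a set with two orbits outside
  obtain ⟨W, hW, a, b, ha, hb, hab⟩ : ∃ W : Finset α, W.card = r ∧ ∃ a b, a ∉ W ∧ b ∉ W ∧
      ∀ g ∈ G, (∀ x ∈ W, g x = x) → g a ≠ b := by
    by_contra hall
    push Not at hall
    refine hnot (CfsgLib.Perm.isMultiplyPretransitive_of_fixing (by omega) fun W hW a b ha hb => ?_)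
    obtain ⟨g, hg, hgW, hga⟩ := hall W (by omega) a b ha hb
    exact ⟨⟨g, hg⟩, hgW, hga⟩
  obtain ⟨w1, w2, w3, w4, hnd, m1, m2, m3, m4⟩ := exists_four (show 4 ≤ W.card by omega)
  simp only [List.nodup_cons, List.mem_cons, List.not_mem_nil, or_false, not_or, List.nodup_nil,
    and_true, not_false_eq_true] at hnd
  obtain ⟨⟨n12, n13, n14⟩, ⟨n23, n24⟩, n34⟩ :
    (w1 ≠ w2 ∧ w1 ≠ w3 ∧ w1 ≠ w4) ∧ (w2 ≠ w3 ∧ w2 ≠ w4) ∧ w3 ≠ w4 := hnd
  set T : Subgroup (Equiv.Perm α) := G ⊓ fixingSubgroup (Equiv.Perm α) (W : Set α) with hT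
  have memT : ∀ q, q ∈ T ↔ q ∈ G ∧ ∀ x ∈ W, q x = x := fun q => by
    simp only [hT, Subgroup.mem_inf, mem_fixingSubgroup_iff]; rfl
  have hTodd : Odd (Nat.card T) := by
    by_contra he
    haveI : Fact (Nat.Prime 2) := ⟨Nat.prime_two⟩
    obtain ⟨z, hz⟩ := exists_prime_orderOf_dvd_card' (G := T) 2
      (even_iff_two_dvd.1 (Nat.not_odd_iff_even.1 he))
    have h2 := pow_orderOf_eq_one z
    rw [hz, pow_two] at h2
    have hz1 : (z : Equiv.Perm α) ≠ 1 := fun e => by
      rw [OneMemClass.coe_eq_one.1 e, orderOf_one] at hz; omega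
    have := hinv z ((memT _).1 z.2).1 (congrArg Subtype.val h2) hz1
    have hsub : W ⊆ fixSet (z : Equiv.Perm α) := fun x hx => mem_fixSet.2 (((memT _).1 z.2).2 x hx)
    have := card_le_card hsub
    omega
  set O : α → Finset α := fun x => (univ.filter fun q : Equiv.Perm α => q ∈ T).image fun q => q x with hO
  have memO : ∀ x y, y ∈ O x ↔ ∃ q ∈ T, q x = y := fun x y => by simp [hO]
  have Oself : ∀ x, x ∈ O x := fun x => (memO x x).2 ⟨1, T.one_mem, rfl⟩
  have Oout : ∀ x, x ∉ W → ∀ y ∈ O x, y ∉ W := fun x hx y hy hyW => hx (by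
    obtain ⟨q, hq, rfl⟩ := (memO x y).1 hy
    rwa [q.injective (((memT q).1 hq).2 _ hyW)] at hyW)
  have Ocard : ∀ x, Odd (O x).card := fun x => by
    refine hTodd.of_dvd_nat ?_
    have hcard : (O x).card = Nat.card (orbit T x) := by
      rw [Nat.card_coe_set_eq, ← Set.ncard_coe_finset]
      congr 1
      ext y
      rw [mem_coe, memO]
      exact ⟨fun ⟨q, hq, h⟩ => ⟨⟨q, hq⟩, h⟩, fun ⟨q, h⟩ => ⟨q, q.2, h⟩⟩
    rw [hcard, Nat.card_coe_set_eq, ← index_stabilizer]
    exact Subgroup.index_dvd_card _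
  -- even permutations of `W + x` in cycle form
  have hdbl : ∀ x, x ∉ W → ∀ {u1 u2 u3 u4 : α}, u1 ∈ W → u2 ∈ W → u3 ∈ W → u4 ∈ W → u1 ≠ u2 → u1 ≠ u3 →
      u1 ≠ u4 → u2 ≠ u3 → u2 ≠ u4 → u3 ≠ u4 →
      ∃ h ∈ G, IsDoubleOn h W u1 u2 u3 u4 ∧ h x = x := by
    intro x hx u1 u2 u3 u4 h1 h2 h3 h4 e12 e13 e14 e23 e24 e34
    set C := insert x W
    have hC : C.card = r + 1 := by rw [card_insert_of_notMem hx, hW]
    have i1 : u1 ∈ C := mem_insert_of_mem h1
    have i2 : u2 ∈ C := mem_insert_of_mem h2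
    have i3 : u3 ∈ C := mem_insert_of_mem h3
    have i4 : u4 ∈ C := mem_insert_of_mem h4
    obtain ⟨h, hh, hσ⟩ := halt C hC
      (show Equiv.swap (⟨u1, i1⟩ : ↥C) ⟨u2, i2⟩ * Equiv.swap ⟨u3, i3⟩ ⟨u4, i4⟩ ∈ alternatingGroup ↥C by
        rw [Equiv.Perm.mem_alternatingGroup, map_mul,
          Equiv.Perm.sign_swap (fun e => e12 (congrArg Subtype.val e)),
          Equiv.Perm.sign_swap (fun e => e34 (congrArg Subtype.val e))]
        decide)
    have hval : ∀ z (hz : z ∈ C), h z = ((Equiv.swap (⟨u1, i1⟩ : ↥C) ⟨u2, i2⟩)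
        (Equiv.swap ⟨u3, i3⟩ ⟨u4, i4⟩ ⟨z, hz⟩) : α) := fun z hz => hσ ⟨z, hz⟩
    have hne : ∀ {p q : α} {hp : p ∈ C} {hq : q ∈ C}, p ≠ q → (⟨p, hp⟩ : ↥C) ≠ ⟨q, hq⟩ :=
      fun h e => h (congrArg Subtype.val e)
    have hrest : ∀ z (hz : z ∈ C), z ≠ u1 → z ≠ u2 → z ≠ u3 → z ≠ u4 → h z = z := fun z hz a1 a2 a3 a4 => by
      rw [hval z hz, Equiv.swap_apply_of_ne_of_ne (hne a3) (hne a4),
        Equiv.swap_apply_of_ne_of_ne (hne a1) (hne a2)]
    refine ⟨h, hh, ⟨?_, ?_, ?_, ?_, fun z hz => hrest z (mem_insert_of_mem hz)⟩,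
      hrest x (mem_insert_self _ _) (fun e => hx (e ▸ h1)) (fun e => hx (e ▸ h2))
        (fun e => hx (e ▸ h3)) (fun e => hx (e ▸ h4))⟩
    · rw [hval u1 i1, Equiv.swap_apply_of_ne_of_ne (hne e13) (hne e14), Equiv.swap_apply_left]
    · rw [hval u2 i2, Equiv.swap_apply_of_ne_of_ne (hne e23) (hne e24), Equiv.swap_apply_right]
    · rw [hval u3 i3, Equiv.swap_apply_left, Equiv.swap_apply_of_ne_of_ne (hne e14.symm) (hne e24.symm)]
    · rw [hval u4 i4, Equiv.swap_apply_right, Equiv.swap_apply_of_ne_of_ne (hne e13.symm) (hne e23.symm)]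
  have hsame : ∀ {q : Equiv.Perm α} {u1 u2 u3 u4 : α}, q ∈ G → u1 ∈ W → u2 ∈ W → u3 ∈ W → u4 ∈ W →
      u1 ≠ u2 → u1 ≠ u3 → u1 ≠ u4 → u2 ≠ u3 → u2 ≠ u4 → u3 ≠ u4 → IsDoubleOn q W u1 u2 u3 u4 →
      ∀ x, x ∉ W → q x ∈ O x := by
    intro q u1 u2 u3 u4 hq h1 h2 h3 h4 e12 e13 e14 e23 e24 e34 hd x hx
    obtain ⟨h, hh, hhd, hhx⟩ := hdbl x hx h1 h2 h3 h4 e12 e13 e14 e23 e24 e34
    refine (memO x _).2 ⟨q * h⁻¹, (memT _).2 ⟨G.mul_mem hq (G.inv_mem hh), fun z hz => ?_⟩, ?_⟩
    · rw [Equiv.Perm.mul_apply]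
      rcases eq_or_ne z u1 with rfl | a1
      · rw [Equiv.Perm.inv_def, (Equiv.symm_apply_eq h).2 hhd.2.1.symm, hd.2.1]
      rcases eq_or_ne z u2 with rfl | a2
      · rw [Equiv.Perm.inv_def, (Equiv.symm_apply_eq h).2 hhd.1.symm, hd.1]
      rcases eq_or_ne z u3 with rfl | a3
      · rw [Equiv.Perm.inv_def, (Equiv.symm_apply_eq h).2 hhd.2.2.2.1.symm, hd.2.2.2.1]
      rcases eq_or_ne z u4 with rfl | a4
      · rw [Equiv.Perm.inv_def, (Equiv.symm_apply_eq h).2 hhd.2.2.1.symm, hd.2.2.1]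
      rw [Equiv.Perm.inv_def, (Equiv.symm_apply_eq h).2 (hhd.2.2.2.2 z hz a1 a2 a3 a4).symm,
        hd.2.2.2.2 z hz a1 a2 a3 a4]
    · rw [Equiv.Perm.mul_apply, Equiv.Perm.inv_def, (Equiv.symm_apply_eq h).2 hhx.symm]
  -- there are exactly two orbits
  have hswapto : ∀ c, c ∉ W → c ∈ O a ∨ ∃ g ∈ G, g w1 = w2 ∧ g w2 = w1 ∧
      (∀ z ∈ W, z ≠ w1 → z ≠ w2 → g z = z) ∧ g a = c := by
    intro c hc
    obtain ⟨g, hg, hgC⟩ := hhom (insert a W) (insert c W)
      (by rw [card_insert_of_notMem ha, hW]) (by rw [card_insert_of_notMem hc, hW])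
    have hgm : ∀ x : ↥(insert a W), g x ∈ insert c W := fun x => hgC ▸ mem_image_of_mem g x.2
    let eg : ↥(insert a W) ≃ ↥(insert c W) := Equiv.ofBijective (fun x => ⟨g x, hgm x⟩)
      ((Fintype.bijective_iff_injective_and_card _).2
        ⟨fun x y h => Subtype.ext (g.injective (congrArg Subtype.val h)), by
          rw [Fintype.card_coe, Fintype.card_coe, card_insert_of_notMem ha, card_insert_of_notMem hc]⟩)
    have hnat : ∀ x : ↥(insert a W), (if (x : α) = a then c else x) ∈ insert c W := fun x => by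
      split_ifs with h
      · exact mem_insert_self _ _
      · exact mem_insert_of_mem ((mem_insert.1 x.2).resolve_left h)
    let en : ↥(insert a W) ≃ ↥(insert c W) :=
      Equiv.ofBijective (fun x => ⟨if (x : α) = a then c else x, hnat x⟩)
      ((Fintype.bijective_iff_injective_and_card _).2
        ⟨fun x y h => by
          have h' := congrArg Subtype.val h
          simp only at h'
          split_ifs at h' with e1 e2 e3
          · exact Subtype.ext (e1.trans e2.symm)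
          · exact absurd ((mem_insert.1 y.2).resolve_left e2) (h' ▸ hc)
          · exact absurd ((mem_insert.1 x.2).resolve_left e1) (h'.symm ▸ hc)
          · exact Subtype.ext h', by
          rw [Fintype.card_coe, Fintype.card_coe, card_insert_of_notMem ha, card_insert_of_notMem hc]⟩)
    set σ : Equiv.Perm ↥(insert c W) := eg.symm.trans en
    have hcW : (insert c W).card = r + 1 := by rw [card_insert_of_notMem hc, hW]
    have hval : ∀ x : ↥(insert a W), σ (eg x) = en x := fun x => by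
      simp [σ]
    by_cases hs : σ ∈ alternatingGroup ↥(insert c W)
    · left
      obtain ⟨q, hq, hqσ⟩ := halt _ hcW hs
      have h : ∀ x : ↥(insert a W), (q * g) x = if (x : α) = a then c else x := fun x => by
        have := hqσ (eg x)
        rw [hval x] at this
        exact this
      refine (memO a c).2 ⟨q * g, (memT _).2 ⟨G.mul_mem hq hg, fun z hz => ?_⟩, ?_⟩
      · have := h ⟨z, mem_insert_of_mem hz⟩
        rwa [if_neg (fun e => ha (by rwa [← e]))] at this
      · simpa using h ⟨a, mem_insert_self _ _⟩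
    · right
      have k1 : w1 ∈ insert c W := mem_insert_of_mem m1
      have k2 : w2 ∈ insert c W := mem_insert_of_mem m2
      obtain ⟨q, hq, hqσ⟩ := halt _ hcW (show Equiv.swap ⟨w1, k1⟩ ⟨w2, k2⟩ * σ ∈ alternatingGroup _ by
        rw [Equiv.Perm.mem_alternatingGroup, map_mul,
          Equiv.Perm.sign_swap (fun e => n12 (congrArg Subtype.val e))]
        rw [Equiv.Perm.mem_alternatingGroup] at hs
        rw [(Int.units_eq_one_or _).resolve_left hs]
        decide)
      have h : ∀ x : ↥(insert a W), (q * g) x = (Equiv.swap (⟨w1, k1⟩ : ↥(insert c W)) ⟨w2, k2⟩ (en x) : α) := fun x => by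
        have := hqσ (eg x)
        rw [Equiv.Perm.mul_apply, hval x] at this
        exact this
      have hen : ∀ z (hz : z ∈ W), en ⟨z, mem_insert_of_mem hz⟩ = ⟨z, mem_insert_of_mem hz⟩ := fun z hz =>
        Subtype.ext (if_neg (fun e : z = a => ha (e ▸ hz)))
      refine ⟨q * g, G.mul_mem hq hg, ?_, ?_, fun z hz a1 a2 => ?_, ?_⟩
      · have := h ⟨w1, mem_insert_of_mem m1⟩
        rwa [hen w1 m1, Equiv.swap_apply_left] at this
      · have := h ⟨w2, mem_insert_of_mem m2⟩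
        rwa [hen w2 m2, Equiv.swap_apply_right] at this
      · have := h ⟨z, mem_insert_of_mem hz⟩
        rwa [hen z hz, Equiv.swap_apply_of_ne_of_ne (fun e => a1 (congrArg Subtype.val e))
          (fun e => a2 (congrArg Subtype.val e))] at this
      · have := h ⟨a, mem_insert_self _ _⟩
        rw [show en ⟨a, mem_insert_self _ _⟩ = ⟨c, mem_insert_self _ _⟩ from Subtype.ext (if_pos rfl),
          Equiv.swap_apply_of_ne_of_ne (fun e => hc (by
              have e' : c = w1 := congrArg Subtype.val e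
              rw [e']; exact m1))
            (fun e => hc (by
              have e' : c = w2 := congrArg Subtype.val e
              rw [e']; exact m2))] at this
        exact this
  have hnb : b ∉ O a := fun h => by
    obtain ⟨q, hq, hqb⟩ := (memO a b).1 h
    exact hab q ((memT q).1 hq).1 ((memT q).1 hq).2 hqb
  have hcover : ∀ c, c ∉ W → c ∈ O a ∨ c ∈ O b := by
    intro c hc
    rcases hswapto c hc with h | ⟨g, hg, g1, g2, g3, g4⟩
    · exact Or.inl h
    rcases hswapto b hb with h | ⟨k, hk, k1, k2, k3, k4⟩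
    · exact absurd h hnb
    refine Or.inr ((memO b c).2 ⟨g * k⁻¹, (memT _).2 ⟨G.mul_mem hg (G.inv_mem hk), fun z hz => ?_⟩, ?_⟩)
    · rw [Equiv.Perm.mul_apply, Equiv.Perm.inv_def]
      rcases eq_or_ne z w1 with rfl | a1
      · rw [(Equiv.symm_apply_eq k).2 k2.symm, g2]
      rcases eq_or_ne z w2 with rfl | a2
      · rw [(Equiv.symm_apply_eq k).2 k1.symm, g1]
      rw [(Equiv.symm_apply_eq k).2 (k3 z hz a1 a2).symm, g3 z hz a1 a2]
    · rw [Equiv.Perm.mul_apply, Equiv.Perm.inv_def, (Equiv.symm_apply_eq k).2 k4.symm, g4]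
  have hdisj : Disjoint (O a) (O b) := by
    rw [Finset.disjoint_left]
    intro y hy hy'
    obtain ⟨q, hq, rfl⟩ := (memO a y).1 hy
    obtain ⟨q', hq', h⟩ := (memO b _).1 hy'
    refine hnb ((memO a b).2 ⟨q'⁻¹ * q, T.mul_mem (T.inv_mem hq') hq, ?_⟩)
    rw [Equiv.Perm.mul_apply, ← h, Equiv.Perm.inv_def, Equiv.symm_apply_apply]
  -- a double involution has one fixed point in each orbit
  have hone : ∀ {q : Equiv.Perm α} {u1 u2 u3 u4 : α}, q ∈ G → q * q = 1 → u1 ∈ W → u2 ∈ W → u3 ∈ W → u4 ∈ W →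
      u1 ≠ u2 → u1 ≠ u3 → u1 ≠ u4 → u2 ≠ u3 → u2 ≠ u4 → u3 ≠ u4 → IsDoubleOn q W u1 u2 u3 u4 →
      ∀ x ∈ ({a, b} : Finset α), ((O x).filter fun y => q y = y).card = 1 := by
    intro q u1 u2 u3 u4 hq hqq h1 h2 h3 h4 e12 e13 e14 e23 e24 e34 hd
    have hq1 : q ≠ 1 := fun e => e12 (by rw [← hd.1, e]; rfl)
    have hpos : ∀ x, x ∉ W → 1 ≤ ((O x).filter fun y => q y = y).card := by
      intro x hx
      have hC : ∀ y ∈ O x, q • y ∈ O x := fun y hy => by
        have hy' := hsame hq h1 h2 h3 h4 e12 e13 e14 e23 e24 e34 hd y (Oout x hx y hy)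
        obtain ⟨t, ht, rfl⟩ := (memO x y).1 hy
        obtain ⟨t', ht', e⟩ := (memO _ _).1 hy'
        exact (memO x _).2 ⟨t' * t, T.mul_mem ht' ht, e⟩
      obtain ⟨m, hm⟩ := even_card_moved hqq hC
      have := card_moved_add_card_fixed q (O x)
      simp only [Equiv.Perm.smul_def] at this hm
      obtain ⟨i, hi⟩ := Ocard x
      omega
    have htot : (W \ {u1, u2, u3, u4}).card + (((O a).filter fun y => q y = y).card +
        ((O b).filter fun y => q y = y).card) ≤ r - 2 := by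
      rw [← card_union_of_disjoint (disjoint_filter_filter hdisj),
        ← card_union_of_disjoint (disjoint_left.2 fun y hy hy' => by
          rw [mem_sdiff] at hy
          simp only [mem_union, mem_filter] at hy'
          rcases hy' with h | h
          · exact Oout a ha y h.1 hy.1
          · exact Oout b hb y h.1 hy.1)]
      refine (card_le_card fun y hy => ?_).trans (hinv q hq hqq hq1)
      rw [mem_fixSet]
      simp only [mem_union, mem_sdiff, mem_filter, mem_insert, mem_singleton, not_or] at hy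
      rcases hy with h | h | h
      · exact hd.2.2.2.2 y h.1 h.2.1 h.2.2.1 h.2.2.2.1 h.2.2.2.2
      · exact h.2
      · exact h.2
    rw [card_sdiff_of_subset (by simp [insert_subset_iff, h1, h2, h3, h4]), hW,
      show ({u1, u2, u3, u4} : Finset α).card = 4 by simp [e12, e13, e14, e23, e24, e34]] at htot
    have := hpos a ha
    have := hpos b hb
    intro x hx
    simp only [mem_insert, mem_singleton] at hx
    rcases hx with rfl | rfl <;> omega
  -- the first double involution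
  obtain ⟨g, hg, hgd, -⟩ := hdbl a ha m1 m2 m3 m4 n12 n13 n14 n23 n24 n34
  have hsq : ∀ {q : Equiv.Perm α} {u1 u2 u3 u4 : α}, q ∈ G → IsDoubleOn q W u1 u2 u3 u4 → q * q ∈ T :=
    fun {q u1 u2 u3 u4} hq hd => (memT _).2 ⟨G.mul_mem hq hq, fun z hz => by
      rw [Equiv.Perm.mul_apply]
      rcases eq_or_ne z u1 with rfl | a1
      · rw [hd.1, hd.2.1]
      rcases eq_or_ne z u2 with rfl | a2
      · rw [hd.2.1, hd.1]
      rcases eq_or_ne z u3 with rfl | a3
      · rw [hd.2.2.1, hd.2.2.2.1]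
      rcases eq_or_ne z u4 with rfl | a4
      · rw [hd.2.2.2.1, hd.2.2.1]
      rw [hd.2.2.2.2 z hz a1 a2 a3 a4, hd.2.2.2.2 z hz a1 a2 a3 a4]⟩
  have hmulT : ∀ {q t : Equiv.Perm α} {u1 u2 u3 u4 : α}, u1 ∈ W → u2 ∈ W → u3 ∈ W → u4 ∈ W →
      IsDoubleOn q W u1 u2 u3 u4 → t ∈ T → IsDoubleOn (q * t) W u1 u2 u3 u4 := by
    intro q t u1 u2 u3 u4 h1 h2 h3 h4 hd ht
    have ht' := ((memT t).1 ht).2
    refine ⟨?_, ?_, ?_, ?_, fun z hz a1 a2 a3 a4 => ?_⟩ <;> rw [Equiv.Perm.mul_apply]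
    · rw [ht' _ h1, hd.1]
    · rw [ht' _ h2, hd.2.1]
    · rw [ht' _ h3, hd.2.2.1]
    · rw [ht' _ h4, hd.2.2.2.1]
    · rw [ht' _ hz, hd.2.2.2.2 z hz a1 a2 a3 a4]
  have hgT : g ∉ T := fun h => n12 (by rw [← hgd.1, ((memT g).1 h).2 w1 m1])
  obtain ⟨d, hdd, hd1, hdT⟩ := exists_involution_coset hTodd (hsq hg hgd) hgT
  have hdd' : IsDoubleOn d W w1 w2 w3 w4 := mul_inv_cancel_left g d ▸ hmulT m1 m2 m3 m4 hgd hdT
  have hdG : d ∈ G := mul_inv_cancel_left g d ▸ G.mul_mem hg ((memT _).1 hdT).1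
  -- a commuting double involution
  obtain ⟨k, hk, hkd, -⟩ := hdbl a ha m1 m3 m2 m4 n13 n12 n14 n23.symm n34 n24
  have hkd' : IsDoubleOn (k * d * k⁻¹) W w1 w2 w3 w4 := by
    have i1 : k⁻¹ w1 = w3 := by rw [Equiv.Perm.inv_def, Equiv.symm_apply_eq, hkd.2.1]
    have i2 : k⁻¹ w2 = w4 := by rw [Equiv.Perm.inv_def, Equiv.symm_apply_eq, hkd.2.2.2.1]
    have i3 : k⁻¹ w3 = w1 := by rw [Equiv.Perm.inv_def, Equiv.symm_apply_eq, hkd.1]
    have i4 : k⁻¹ w4 = w2 := by rw [Equiv.Perm.inv_def, Equiv.symm_apply_eq, hkd.2.2.1]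
    refine ⟨?_, ?_, ?_, ?_, fun z hz a1 a2 a3 a4 => ?_⟩ <;> simp only [Equiv.Perm.mul_apply]
    · rw [i1, hdd'.2.2.1, hkd.2.2.2.1]
    · rw [i2, hdd'.2.2.2.1, hkd.2.1]
    · rw [i3, hdd'.1, hkd.2.2.1]
    · rw [i4, hdd'.2.1, hkd.1]
    · rw [show k⁻¹ z = z by rw [Equiv.Perm.inv_def, Equiv.symm_apply_eq, hkd.2.2.2.2 z hz a1 a3 a2 a4],
        hdd'.2.2.2.2 z hz a1 a2 a3 a4, hkd.2.2.2.2 z hz a1 a3 a2 a4]
  have hkk : k * d * k⁻¹ * (k * d * k⁻¹) = 1 := by
    calc k * d * k⁻¹ * (k * d * k⁻¹) = k * (d * d) * k⁻¹ := by group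
      _ = 1 := by rw [hdd, mul_one, mul_inv_cancel]
  have hprod : d * (k * d * k⁻¹) ∈ T := by
    refine (memT _).2 ⟨G.mul_mem hdG (G.mul_mem (G.mul_mem hk hdG) (G.inv_mem hk)), fun z hz => ?_⟩
    rw [Equiv.Perm.mul_apply]
    rcases eq_or_ne z w1 with rfl | a1
    · rw [hkd'.1, hdd'.2.1]
    rcases eq_or_ne z w2 with rfl | a2
    · rw [hkd'.2.1, hdd'.1]
    rcases eq_or_ne z w3 with rfl | a3
    · rw [hkd'.2.2.1, hdd'.2.2.2.1]
    rcases eq_or_ne z w4 with rfl | a4
    · rw [hkd'.2.2.2.1, hdd'.2.2.1]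
    rw [hkd'.2.2.2.2 z hz a1 a2 a3 a4, hdd'.2.2.2.2 z hz a1 a2 a3 a4]
  obtain ⟨τ, hτ, hτd⟩ := exists_conj_of_odd hdd hkk (hTodd.of_dvd_nat (T.orderOf_dvd_natCard hprod))
  have hτT : τ ∈ T := (Subgroup.zpowers_le.2 hprod) hτ
  set k' := τ⁻¹ * k
  have hτi := ((memT _).1 (T.inv_mem hτT)).2
  have hk'd : IsDoubleOn k' W w1 w3 w2 w4 := by
    refine ⟨?_, ?_, ?_, ?_, fun z hz a1 a2 a3 a4 => ?_⟩ <;> rw [Equiv.Perm.mul_apply]
    · rw [hkd.1, hτi _ m3]
    · rw [hkd.2.1, hτi _ m1]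
    · rw [hkd.2.2.1, hτi _ m4]
    · rw [hkd.2.2.2.1, hτi _ m2]
    · rw [hkd.2.2.2.2 z hz a1 a2 a3 a4, hτi _ hz]
  have hk'c : Commute k' d := by
    have : k' * d * k'⁻¹ = d := by
      calc k' * d * k'⁻¹ = τ⁻¹ * (k * d * k⁻¹) * τ := by simp only [k']; group
        _ = d := by rw [hτd]; group
    exact mul_inv_eq_iff_eq_mul.1 this
  have hk'G : k' ∈ G := G.mul_mem ((memT _).1 (T.inv_mem hτT)).1 hk
  obtain ⟨i, hi⟩ := hTodd.of_dvd_nat (T.orderOf_dvd_natCard (hsq hk'G hk'd))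
  set e := k' ^ (2 * i + 1) with he
  have hee : e * e = 1 := by
    rw [he, ← (Commute.refl k').mul_pow, ← hi, pow_orderOf_eq_one]
  have hed : Commute e d := hk'c.pow_left _
  have he' : IsDoubleOn e W w1 w3 w2 w4 := by
    rw [he, pow_succ', pow_mul, pow_two]
    exact hmulT m1 m3 m2 m4 hk'd (pow_mem (hsq hk'G hk'd) i)
  have heG : e ∈ G := G.pow_mem hk'G _
  have hde : IsDoubleOn (d * e) W w1 w4 w2 w3 := by
    refine ⟨?_, ?_, ?_, ?_, fun z hz a1 a2 a3 a4 => ?_⟩ <;> rw [Equiv.Perm.mul_apply]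
    · rw [he'.1, hdd'.2.2.1]
    · rw [he'.2.2.2.1, hdd'.2.1]
    · rw [he'.2.2.1, hdd'.2.2.2.1]
    · rw [he'.2.1, hdd'.1]
    · rw [he'.2.2.2.2 z hz a1 a4 a3 a2, hdd'.2.2.2.2 z hz a1 a3 a4 a2]
  have hdede : d * e * (d * e) = 1 := by
    calc d * e * (d * e) = d * (e * d) * e := by group
      _ = d * d * (e * e) := by rw [hed.eq]; group
      _ = 1 := by rw [hdd, hee, one_mul]
  -- the stabiliser fixes a point in each orbit
  have hsmall : ∀ x ∈ ({a, b} : Finset α), (O x).card = 1 := by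
    intro x hx
    have hxW : x ∉ W := by
      simp only [mem_insert, mem_singleton] at hx
      rcases hx with rfl | rfl <;> assumption
    have o1 := hone hdG hdd m1 m2 m3 m4 n12 n13 n14 n23 n24 n34 hdd' x hx
    have o2 := hone heG hee m1 m3 m2 m4 n13 n12 n14 n23.symm n34 n24 he' x hx
    have o3 := hone (G.mul_mem hdG heG) hdede m1 m4 m2 m3 n14 n12 n13 n24.symm n34.symm n23 hde x hx
    obtain ⟨p, hp⟩ := card_eq_one.1 o1
    have hpm : p ∈ (O x).filter fun y => d y = y := hp ▸ mem_singleton_self p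
    rw [mem_filter] at hpm
    have hep : e p = p := by
      have hy := hsame heG m1 m3 m2 m4 n13 n12 n14 n23.symm n34 n24 he' p (Oout x hxW p hpm.1)
      have hmem : e p ∈ (O x).filter fun y => d y = y := by
        refine mem_filter.2 ⟨?_, ?_⟩
        · obtain ⟨t, ht, htp⟩ := (memO x p).1 hpm.1
          obtain ⟨t', ht', h⟩ := (memO p _).1 hy
          exact (memO x _).2 ⟨t' * t, T.mul_mem ht' ht, by rw [Equiv.Perm.mul_apply, htp, h]⟩
        · rw [← Equiv.Perm.mul_apply, ← hed.eq, Equiv.Perm.mul_apply, hpm.2]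
      rwa [hp, mem_singleton] at hmem
    have hfix : ∀ q, q ∈ T → ∀ u, u * q = q * u → ((O x).filter fun y => u y = y).card = 1 →
        u p = p → q p = p := by
      intro q hq u hc hcard hup
      refine card_le_one.1 hcard.le (q p) (mem_filter.2 ⟨?_, ?_⟩) p (mem_filter.2 ⟨hpm.1, hup⟩)
      · obtain ⟨t, ht, htp⟩ := (memO x p).1 hpm.1
        exact (memO x _).2 ⟨q * t, T.mul_mem hq ht, by rw [Equiv.Perm.mul_apply, htp]⟩
      · rw [← Equiv.Perm.mul_apply, hc, Equiv.Perm.mul_apply, hup]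
    -- the four-group
    let V : Subgroup (Equiv.Perm α) :=
      { carrier := {1, d, e, d * e}
        one_mem' := Or.inl rfl
        mul_mem' := by
          have c1 : e * d = d * e := hed.eq
          have c2 : d * (d * e) = e := by rw [← mul_assoc, hdd, one_mul]
          have c3 : d * e * d = e := by rw [mul_assoc, c1, c2]
          have c4 : e * (d * e) = d := by rw [← mul_assoc, c1, mul_assoc, hee, mul_one]
          have c5 : d * e * e = d := by rw [mul_assoc, hee, mul_one]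
          rintro x y (rfl | rfl | rfl | rfl) (rfl | rfl | rfl | rfl) <;>
            simp [hdd, hee, c1, c2, c3, c4, c5, hdede]
        inv_mem' := by
          rintro x (rfl | rfl | rfl | rfl)
          · exact Or.inl inv_one
          · exact Or.inr (Or.inl (inv_eq_of_mul_eq_one_right hdd))
          · exact Or.inr (Or.inr (Or.inl (inv_eq_of_mul_eq_one_right hee)))
          · exact Or.inr (Or.inr (Or.inr (inv_eq_of_mul_eq_one_right hdede))) }
    have hexp : ∀ q ∈ V, q * q = 1 := by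
      rintro q (rfl | rfl | rfl | rfl)
      exacts [one_mul 1, hdd, hee, hdede]
    haveI : IsMulCommutative V := ⟨⟨fun s t => Subtype.ext (by
      have h := hexp _ (V.mul_mem s.2 t.2)
      have := eq_inv_of_mul_eq_one_left h
      rw [mul_inv_rev, inv_eq_of_mul_eq_one_right (hexp _ s.2), inv_eq_of_mul_eq_one_right (hexp _ t.2)] at this
      exact this)⟩⟩
    have hV2 : IsPGroup 2 V := fun q => ⟨1, Subtype.ext (by simpa [pow_two] using hexp q q.2)⟩
    have hd_ne_e : d ≠ e := fun h => n23 (hdd'.1.symm.trans (h ▸ he'.1))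
    have hcyc : ¬ IsCyclic V := by
      intro hc
      obtain ⟨v, hv⟩ := hc.exists_generator
      have h2 : Nat.card V ≤ 2 := by
        rw [← orderOf_eq_card_of_forall_mem_zpowers hv]
        exact Nat.le_of_dvd (by norm_num)
          (orderOf_dvd_of_pow_eq_one (Subtype.ext (by simpa [pow_two] using hexp v v.2)))
      have : ({1, d, e} : Finset (Equiv.Perm α)).card ≤ Nat.card V := by
        rw [Nat.card_eq_fintype_card, ← card_univ, ← card_map (Function.Embedding.subtype _)]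
        refine card_le_card fun q hq => ?_
        simp only [mem_insert, mem_singleton] at hq
        refine mem_map.2 ⟨⟨q, ?_⟩, mem_univ _, rfl⟩
        rcases hq with rfl | rfl | rfl
        exacts [Or.inl rfl, Or.inr (Or.inl rfl), Or.inr (Or.inr (Or.inl rfl))]
      have hne : (1 : Equiv.Perm α) ≠ e := fun h => n13 (by rw [← he'.1, ← h]; rfl)
      rw [card_insert_of_notMem (by simp [Ne.symm hd1, hne]), card_pair hd_ne_e] at this
      omega
    have hVT : V ≤ Subgroup.normalizer (T : Set (Equiv.Perm α)) := by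
      have hWd : ∀ {q : Equiv.Perm α} {u1 u2 u3 u4 : α}, u1 ∈ W → u2 ∈ W → u3 ∈ W → u4 ∈ W →
          IsDoubleOn q W u1 u2 u3 u4 → ∀ z ∈ W, q z ∈ W := by
        intro q u1 u2 u3 u4 h1 h2 h3 h4 hd z hz
        rcases eq_or_ne z u1 with rfl | a1
        · rwa [hd.1]
        rcases eq_or_ne z u2 with rfl | a2
        · rwa [hd.2.1]
        rcases eq_or_ne z u3 with rfl | a3
        · rwa [hd.2.2.1]
        rcases eq_or_ne z u4 with rfl | a4
        · rwa [hd.2.2.2.1]
        rwa [hd.2.2.2.2 z hz a1 a2 a3 a4]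
      intro q hq
      rw [Subgroup.mem_normalizer_iff]
      have hqW : ∀ z ∈ W, q z ∈ W := by
        rcases hq with rfl | rfl | rfl | rfl
        exacts [fun z hz => hz, hWd m1 m2 m3 m4 hdd', hWd m1 m3 m2 m4 he', hWd m1 m4 m2 m3 hde]
      have hqG : q ∈ G := by
        rcases hq with rfl | rfl | rfl | rfl
        exacts [G.one_mem, hdG, heG, G.mul_mem hdG heG]
      have hqi : q⁻¹ = q := inv_eq_of_mul_eq_one_right (hexp q hq)
      have hinvq : ∀ z, q (q z) = z := fun z => by rw [← Equiv.Perm.mul_apply, hexp q hq]; rfl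
      have key : ∀ t ∈ T, q * t * q⁻¹ ∈ T := fun t ht => (memT _).2
        ⟨G.mul_mem (G.mul_mem hqG ((memT t).1 ht).1) (G.inv_mem hqG), fun z hz => by
          rw [hqi, Equiv.Perm.mul_apply, Equiv.Perm.mul_apply, ((memT t).1 ht).2 _ (hqW z hz), hinvq]⟩
      refine fun t => ⟨key t, fun ht => ?_⟩
      have := key _ ht
      rwa [hqi, show q * (q * t * q) * q = (q * q) * t * (q * q) by group, hexp q hq, one_mul, mul_one] at this
    have hcop : (Nat.card V).Coprime (Nat.card T) := by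
      obtain ⟨m, hm⟩ := IsPGroup.iff_card.1 hV2
      rw [hm]
      exact Nat.Coprime.pow_left m (Nat.coprime_two_left.2 hTodd)
    have hle : T ≤ stabilizer (Equiv.Perm α) p := by
      refine CfsgLib.Coprime.le_of_centralizer_le_of_not_isCyclic hcyc hVT hcop fun u hu hu1 q hq => ?_
      rw [mem_stabilizer_iff, Equiv.Perm.smul_def]
      have hc : u * q = q * u := (Subgroup.mem_centralizer_singleton_iff.1 hq.2).symm
      rcases hu with rfl | rfl | rfl | rfl
      · exact absurd rfl hu1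
      · exact hfix q hq.1 _ hc o1 hpm.2
      · exact hfix q hq.1 _ hc o2 hep
      · exact hfix q hq.1 _ hc o3 (by rw [Equiv.Perm.mul_apply, hep, hpm.2])
    refine card_eq_one.2 ⟨p, eq_singleton_iff_unique_mem.2 ⟨hpm.1, fun y hy => ?_⟩⟩
    obtain ⟨t, ht, htp⟩ := (memO x p).1 hpm.1
    obtain ⟨t', ht', rfl⟩ := (memO x y).1 hy
    have h1 : (t' * t⁻¹) p = p := hle (T.mul_mem ht' (T.inv_mem ht))
    rwa [← htp, Equiv.Perm.mul_apply, Equiv.Perm.inv_def, Equiv.symm_apply_apply, htp] at h1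
  have hsub : Wᶜ ⊆ O a ∪ O b := fun c hc => mem_union.2 (hcover c (mem_compl.1 hc))
  have := (card_le_card hsub).trans (card_union_le _ _)
  rw [card_compl, hW, hsmall a (mem_insert_self _ _), hsmall b (mem_insert_of_mem (mem_singleton_self _))] at this
  omega

end Main

end CfsgLib.Perm.LW
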