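import Cfsg.Agent.Lib.Perm.LW.Orders

/-!
The Livingstone–Wagner theorems on homogeneous groups.
-/

set_option autoImplicit false
set_option linter.unusedSectionVars false
set_option synthInstance.maxSize 4096

namespace CfsgLib.Perm.LW

open MulAction Finset

/-- The arithmetic for `4`-homogeneous groups of degree at least eight. -/
theorem arith_four : ∀ n, n < 16 → ∀ x, x < 6 → 8 ≤ n → x ∣ 6 → (n - 3) ∣ 4 * x →
    n.descFactorial 2 ∣ n.descFactorial 3 / 6 * x → n = 11 ∧ x = 2 := by
  decide +kernel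

/-- The arithmetic for `5`-homogeneous groups of degree at least ten. -/
theorem arith_five : ∀ n, n < 65 → ∀ x, x < 24 → 10 ≤ n → x ∣ 24 → (n - 4) ∣ 5 * x →
    n.descFactorial 3 ∣ n.descFactorial 4 / 24 * x →
      (n = 12 ∧ x = 8) ∨ (n = 19 ∧ (x = 3 ∨ x = 6 ∨ x = 12)) ∨ (n = 24 ∧ x = 8) := by
  decide +kernel

theorem no_sylow_eleven : ∀ e, e < 11 → e ∣ 10 → e ∣ 30 → (30 / e) % 11 ≠ 1 := by decide +kernel

theorem no_sylow_nineteen : ∀ v ∈ [612, 1224, 2448], ∀ e, e < 19 → e ∣ 18 → e ∣ v → (v / e) % 19 ≠ 1 := by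
  decide +kernel

theorem no_sylow_twentythree : ∀ e, e < 23 → e ∣ 22 → e ∣ 154 → (154 / e) % 23 ≠ 1 := by decide +kernel

theorem no_sylow_seven : ∀ e, e < 7 → e ∣ 6 → e ∣ 60 → (60 / e) % 7 ≠ 1 := by decide +kernel

theorem sylow_false {p v : ℕ} (hp : p.Prime) (hno : ∀ e, e < p → e ∣ p - 1 → e ∣ v → (v / e) % p ≠ 1)
    {e m : ℕ} (he : e ∣ p - 1) (hm : m % p = 1) (h : e * m = v) : False := by
  have hpos : 0 < p - 1 := by have := hp.two_le; omega
  have he0 : 0 < e := Nat.pos_of_dvd_of_pos he hpos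
  refine hno e ?_ he ⟨m, h.symm⟩ ?_
  · have := Nat.le_of_dvd hpos he; omega
  · rw [← h, Nat.mul_div_cancel_left m he0]; exact hm

/-- Seven elements generated by a double transposition and a three cycle. -/
theorem seven_elements : ∀ y d : Equiv.Perm (Fin 4), y * y * y = 1 → y ≠ 1 → d * d = 1 →
    (∀ i, d i ≠ i) → [1, y, y * y, d, y * d * y * y, d * (y * d * y * y), y * d].Nodup := by
  decide +kernel

variable {α : Type*} [Fintype α] [DecidableEq α]

/-- `n ≥ 2k`: a `k`-homogeneous group is `(k-1)`-transitive. -/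
theorem pred_transitive (G : Subgroup (Equiv.Perm α)) : ∀ k, 2 ≤ k → 2 * k ≤ Fintype.card α →
    Homog G k → IsMultiplyPretransitive G α (k - 1) := by
  intro k
  induction k using Nat.strong_induction_on with
  | _ k ih =>
  intro hk hn hh
  have hh1 := hh.pred (by omega) hn
  set n := Fintype.card α with hncard
  obtain rfl | hk2 := eq_or_ne k 2
  · exact isMultiplyPretransitive_one_of_homog hh1
  have hlow : IsMultiplyPretransitive G α (k - 2) := by
    have := ih (k - 1) (by omega) (by omega) (by omega) hh1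
    rwa [show k - 1 - 1 = k - 2 by omega] at this
  by_cases hk6 : 6 ≤ k
  · have h := succ_transitive G (r := k - 2) (by omega) (by omega) hlow
      (show Homog G (k - 2 + 1) by rwa [show k - 2 + 1 = k - 1 by omega])
    rwa [show k - 2 + 1 = k - 1 by omega] at h
  by_contra hnt
  obtain ⟨x, y, hx, hxlt, hcard, hxy, -⟩ := homog_data (j := k - 1) (by omega) (by omega) hh1
    (show Homog G (k - 1 + 1) by rwa [show k - 1 + 1 = k by omega]) hnt
  rw [show k - 1 + 1 = k by omega] at hxy
  rw [← hncard] at hxy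
  have hd := desc_dvd_card hlow (by omega)
  rw [hcard] at hd
  have hx0 : 0 < x := by
    rcases Nat.eq_zero_or_pos x with h | h
    · subst h; rw [Nat.mul_zero] at hcard; exact absurd hcard Nat.card_pos.ne'
    · exact h
  have hy0 : 0 < y := by
    rcases Nat.eq_zero_or_pos y with h | h
    · subst h
      have := Nat.mul_pos (show 0 < k by omega) hx0
      omega
    · exact h
  have hle := Nat.le_mul_of_pos_right (n - (k - 1)) hy0
  obtain rfl | rfl | rfl : k = 3 ∨ k = 4 ∨ k = 5 := by omega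
  · have : x = 1 := by
      simp only [show (3 : ℕ) - 1 = 2 by rfl, Nat.factorial_two] at hxlt
      omega
    subst this
    omega
  · have hx6 : x < 6 := lt_of_lt_of_le hxlt (by decide)
    rw [show (4 : ℕ) - 2 = 2 by rfl, show (4 : ℕ) - 1 = 3 by rfl,
      Nat.choose_eq_descFactorial_div_factorial, ← hncard] at hd
    have hx' : x ∣ 6 := hx
    have h5 : x ≤ 3 := by
      have h4 : ∀ z < 6, z ∣ 6 → z ≤ 3 := by decide
      exact h4 x hx6 hx'
    obtain ⟨hn11, rfl⟩ := arith_four n (by omega) x hx6 (by omega) hx' ⟨y, hxy⟩ hd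
    haveI : IsPretransitive G α := is_one_pretransitive_iff.1
      (isMultiplyPretransitive_one_of_homog ((hh1.pred (by omega) (by omega)).pred (by omega) (by omega)))
    obtain ⟨e, m, he, hm, hG⟩ := prime_degree_order (show Nat.Prime 11 by norm_num) G (hncard ▸ hn11)
    rw [hcard, ← hncard, hn11] at hG
    norm_num [Nat.choose] at hG
    refine sylow_false (show Nat.Prime 11 by norm_num) no_sylow_eleven he hm ?_
    rw [Nat.mul_assoc] at hG
    omega
  · have hx24 : x < 24 := lt_of_lt_of_le hxlt (by decide)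
    rw [show (5 : ℕ) - 2 = 3 by rfl, show (5 : ℕ) - 1 = 4 by rfl,
      Nat.choose_eq_descFactorial_div_factorial, ← hncard] at hd
    have hx' : x ∣ 24 := hx
    have h5 : x ≤ 12 := by
      have h4 : ∀ z < 24, z ∣ 24 → z ≤ 12 := by decide +kernel
      exact h4 x hx24 hx'
    have htwo : IsMultiplyPretransitive G α 2 := by
      haveI := hlow
      exact MulAction.isMultiplyPretransitive_of_le (n := 5 - 2) (by norm_num)
        (by rw [Nat.card_eq_fintype_card]; omega)
    rcases arith_five n (by omega) x hx24 (by omega) hx' ⟨y, hxy⟩ hd with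
      ⟨hn', rfl⟩ | ⟨hn', hx3⟩ | ⟨hn', rfl⟩
    · obtain ⟨e, m, he, hm, hG⟩ := prime_degree_stabilizer (show Nat.Prime 11 by norm_num) htwo (hncard ▸ hn')
      rw [hcard, ← hncard, hn'] at hG
      norm_num [Nat.choose] at hG
      refine sylow_false (show Nat.Prime 11 by norm_num) no_sylow_eleven he hm ?_
      rw [Nat.mul_assoc] at hG
      omega
    · haveI : IsPretransitive G α := by
        haveI := htwo
        exact MulAction.isPretransitive_of_is_two_pretransitive
      obtain ⟨e, m, he, hm, hG⟩ := prime_degree_order (show Nat.Prime 19 by norm_num) G (hncard ▸ hn')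
      rw [hcard, ← hncard, hn'] at hG
      norm_num [Nat.choose] at hG
      rw [Nat.mul_assoc] at hG
      rcases hx3 with rfl | rfl | rfl
      · exact sylow_false (show Nat.Prime 19 by norm_num) (no_sylow_nineteen 612 (by simp)) he hm (by omega)
      · exact sylow_false (show Nat.Prime 19 by norm_num) (no_sylow_nineteen 1224 (by simp)) he hm (by omega)
      · exact sylow_false (show Nat.Prime 19 by norm_num) (no_sylow_nineteen 2448 (by simp)) he hm (by omega)
    · obtain ⟨e, m, he, hm, hG⟩ := prime_degree_stabilizer (show Nat.Prime 23 by norm_num) htwo (hncard ▸ hn')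
      rw [hcard, ← hncard, hn'] at hG
      norm_num [Nat.choose] at hG
      refine sylow_false (show Nat.Prime 23 by norm_num) no_sylow_twentythree he hm ?_
      rw [Nat.mul_assoc] at hG
      omega

/-- **Livingstone–Wagner**: for `k ≥ 5` and `n ≥ 2k` homogeneity gives transitivity. -/
theorem livingstone_wagner (G : Subgroup (Equiv.Perm α)) {k : ℕ} (hk : 5 ≤ k)
    (hn : 2 * k ≤ Fintype.card α) (hh : Homog G k) : IsMultiplyPretransitive G α k := by
  have h := succ_transitive G (r := k - 1) (by omega) (by omega) (pred_transitive G k (by omega) hn hh)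
    (show Homog G (k - 1 + 1) by rwa [show k - 1 + 1 = k by omega])
  rwa [show k - 1 + 1 = k by omega] at h

/-- A group with an involution inducing a non-trivial permutation on an invariant set. -/
theorem two_dvd_induced {G : Subgroup (Equiv.Perm α)} {z : Equiv.Perm α} (hz : z ∈ G) (hzz : z * z = 1)
    {C : Finset α} (hC : ∀ x ∈ C, z x ∈ C) {p : α} (hp : p ∈ C) (hzp : z p ≠ p) :
    2 ∣ Nat.card (inducedPerms G C) := by
  have hzi : ∀ x, z (z x) = x := fun x => by rw [← Equiv.Perm.mul_apply, hzz]; rfl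
  let σ : inducedPerms G C :=
    ⟨z.subtypePerm (fun x => ⟨fun h => hzi x ▸ hC _ h, hC x⟩), z, hz, fun _ => rfl⟩
  have h2 : σ ^ 2 = 1 := Subtype.ext (Equiv.ext fun x => Subtype.ext (by
    change z (z x) = x
    exact hzi x))
  have h1 : σ ≠ 1 := fun e => hzp (congrArg (fun s : inducedPerms G C => ((s.1 ⟨p, hp⟩ : ↥C) : α)) e)
  haveI : Fact (Nat.Prime 2) := ⟨Nat.prime_two⟩
  rw [← orderOf_eq_prime h2 h1]
  exact orderOf_dvd_natCard σ

theorem exists_involution {H : Subgroup (Equiv.Perm α)} (h : 2 ∣ Nat.card H) :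
    ∃ z ∈ H, z * z = 1 ∧ z ≠ 1 := by
  haveI : Fact (Nat.Prime 2) := ⟨Nat.prime_two⟩
  obtain ⟨z, hz⟩ := exists_prime_orderOf_dvd_card' (G := H) 2 h
  refine ⟨z, z.2, ?_, fun e => ?_⟩
  · have := pow_orderOf_eq_one z
    rw [hz, pow_two] at this
    exact congrArg Subtype.val this
  · rw [OneMemClass.coe_eq_one.1 e, orderOf_one] at hz; omega

/-- Degree nine: the order is not `1008`. -/
theorem no_order_1008 (G : Subgroup (Equiv.Perm α)) (hn : Fintype.card α = 9)
    (h3 : IsMultiplyPretransitive G α 3) (hfour : ∀ B : Finset α, B.card = 4 → fixG G B = ⊥)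
    (hG : Nat.card G = 1008) : False := by
  classical
  letI : Fintype G := Fintype.ofFinite G
  obtain ⟨a, -, b, -, hab⟩ := one_lt_card.1 (show 1 < (univ : Finset α).card by rw [card_univ]; omega)
  obtain ⟨c, -, hc⟩ := exists_mem_notMem_of_card_lt_card (s := ({a, b} : Finset α)) (t := univ)
    (card_le_two.trans_lt (by rw [card_univ]; omega))
  simp only [mem_insert, mem_singleton, not_or] at hc
  have hs : ({a, b, c} : Finset α).card = 3 := by simp [hab, Ne.symm hc.1, Ne.symm hc.2]
  have hT : Nat.card (fixG G {a, b, c}) = 2 := by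
    have := card_fixG_mul h3 hs
    rw [hn, hG, show (9 : ℕ).descFactorial 3 = 504 by rfl] at this
    omega
  -- fixed points of involutions
  have hfix : ∀ q : G, q ≠ 1 → (fixSet q : Finset α).card ≤ 3 := fun q hq => by
    by_contra hlt
    obtain ⟨B, hB, hBc⟩ := exists_subset_card_eq (show 4 ≤ (fixSet q : Finset α).card by omega)
    have : (q : Equiv.Perm α) ∈ fixG G B := mem_fixG.2 ⟨q.2, fun x hx => mem_fixSet.1 (hB hx)⟩
    rw [hfour B hBc, Subgroup.mem_bot] at this
    exact hq (Subtype.ext this)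
  set A : Subgroup G := stabilizer G a with hA
  set C := (univ : Finset α).erase a with hC
  set S := univ.filter fun q : G => q • a = a ∧ q * q = 1 ∧ q ≠ 1 ∧ (fixSet q : Finset α).card = 3 with hS
  have hSconj : ∀ r ∈ A, ∀ q ∈ S, r * q * r⁻¹ ∈ S := fun r hr q hq => by
    simp only [hS, mem_filter, mem_univ, true_and] at hq ⊢
    rw [hA, mem_stabilizer_iff] at hr
    refine ⟨by rw [mul_smul, mul_smul, inv_smul_eq_iff.2 hr.symm, hq.1, hr], ?_,
      fun e => hq.2.2.1 (conj_eq_one_iff.1 e), (card_fixSet_conj r q).trans hq.2.2.2⟩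
    calc r * q * r⁻¹ * (r * q * r⁻¹) = r * (q * q) * r⁻¹ := by group
      _ = 1 := by rw [hq.2.1, mul_one, mul_inv_cancel]
  have hP : ∀ p ∈ C.offDiag, ∀ q ∈ C.offDiag, ∃ r ∈ A, r • p = q := fun p hp q hq => by
    simp only [mem_offDiag, hC, mem_erase, mem_univ, and_true] at hp hq
    obtain ⟨r, hr⟩ := exists_smul_of_nodup h3 (l := [a, p.1, p.2]) (l' := [a, q.1, q.2])
      (by simp [Ne.symm hp.1, Ne.symm hp.2.1, hp.2.2]) (by simp [Ne.symm hq.1, Ne.symm hq.2.1, hq.2.2]) rfl rfl
    simp only [List.map_cons, List.map_nil, List.cons.injEq, and_true] at hr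
    exact ⟨r, by rw [hA, mem_stabilizer_iff]; exact hr.1, Prod.ext hr.2.1 hr.2.2⟩
  have hy : (b, c) ∈ C.offDiag := by simp [mem_offDiag, hC, Ne.symm hab, hc.1, Ne.symm hc.2]
  have h1 := pairCount (fun (q : G) (p : α × α) => q • p.1 = p.1 ∧ q • p.2 = p.2) A S C.offDiag hSconj hP
    (fun r _ q p hp => by constructor <;> simp [Prod.smul_fst, Prod.smul_snd, mul_smul, hp.1, hp.2]) hy
  have h2 := pairCount (fun (q : G) (p : α × α) => q • p.1 = p.2 ∧ q • p.2 = p.1) A S C.offDiag hSconj hP
    (fun r _ q p hp => by constructor <;> simp [Prod.smul_fst, Prod.smul_snd, mul_smul, hp.1, hp.2]) hy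
  have hfC : ∀ q ∈ S, (C.filter fun p => q • p = p).card = 2 := fun q hq => by
    simp only [hS, mem_filter, mem_univ, true_and] at hq
    have : (C.filter fun p => q • p = p) = (fixSet q).erase a := by ext p; simp [hC]
    rw [this, card_erase_of_mem (mem_fixSet.2 hq.1), hq.2.2.2]
  have hCc : C.card = 8 := by rw [hC, card_erase_of_mem (mem_univ a), card_univ, hn]
  have e1 : ∀ q ∈ S, (C.offDiag.filter fun p => q • p.1 = p.1 ∧ q • p.2 = p.2).card = 2 := fun q hq => by
    rw [card_pairs_fixed, hfC q hq]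
  have e2 : ∀ q ∈ S, (C.offDiag.filter fun p => q • p.1 = p.2 ∧ q • p.2 = p.1).card = 6 := fun q hq => by
    have hm := card_moved_add_card_fixed q C
    rw [hfC q hq, hCc] at hm
    simp only [hS, mem_filter, mem_univ, true_and] at hq
    rw [card_pairs_swapped hq.2.1 fun p hp => by
      simp only [hC, mem_erase, mem_univ, and_true] at hp ⊢
      exact fun e => hp (smul_left_cancel q (e.trans hq.1.symm))]
    omega
  rw [sum_congr rfl e1, sum_const, smul_eq_mul] at h1
  rw [sum_congr rfl e2, sum_const, smul_eq_mul] at h2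
  have hP56 : C.offDiag.card = 56 := by rw [offDiag_card, hCc]
  rw [hP56] at h1 h2
  have hj : 1 ≤ (S.filter fun q => q • b = b ∧ q • c = c).card := by
    obtain ⟨z, hz, hzz, hz1⟩ := exists_involution (H := fixG G {a, b, c}) (by rw [hT])
    obtain ⟨hzG, hzfix⟩ := mem_fixG.1 hz
    refine card_pos.2 ⟨⟨z, hzG⟩, ?_⟩
    simp only [hS, mem_filter, mem_univ, true_and]
    refine ⟨⟨hzfix a (by simp), Subtype.ext hzz, fun e => hz1 (congrArg Subtype.val e),
      le_antisymm (hfix _ fun e => hz1 (congrArg Subtype.val e)) (hs ▸ card_le_card fun x hx => ?_)⟩,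
      hzfix b (by simp), hzfix c (by simp)⟩
    exact mem_fixSet.2 (hzfix x hx)
  have hi : (S.filter fun q => q • b = c ∧ q • c = b).card ≤ 2 := by
    rw [← hT]
    rcases (S.filter fun q => q • b = c ∧ q • c = b).eq_empty_or_nonempty with h | ⟨r, hr⟩
    · rw [h, card_empty]; exact Nat.zero_le _
    rw [← Fintype.card_coe, ← Nat.card_eq_fintype_card]
    simp only [hS, mem_filter, mem_univ, true_and] at hr
    refine Nat.card_le_card_of_injective (fun q => ⟨((r⁻¹ * q.1 : G) : Equiv.Perm α),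
      mem_fixG.2 ⟨(r⁻¹ * q.1).2, fun x hx => ?_⟩⟩) fun q q' h => Subtype.ext
        (mul_left_cancel (a := r⁻¹) (Subtype.ext (by simpa using h)))
    have hq := q.2
    simp only [hS, mem_filter, mem_univ, true_and] at hq
    simp only [mem_insert, mem_singleton] at hx
    show (r⁻¹ * q.1) • x = x
    rw [mul_smul, inv_smul_eq_iff]
    rcases hx with rfl | rfl | rfl
    · rw [hq.1.1, hr.1.1]
    · rw [hq.2.1, hr.2.1]
    · rw [hq.2.2, hr.2.2]
  simp only [] at h1 h2
  omega

/-- Degree seven: the order is not `210`. -/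
theorem no_order_210 (G : Subgroup (Equiv.Perm α)) (hn : Fintype.card α = 7)
    (hB : ∀ B : Finset α, B.card = 4 → Nat.card (inducedPerms G B) = 6 ∧ fixG G B = ⊥)
    (hG : 2 ∣ Nat.card G) : False := by
  classical
  obtain ⟨z, hz, hzz, hz1⟩ := exists_involution hG
  have hf : (fixSet z : Finset α).card ≤ 3 := by
    by_contra hlt
    obtain ⟨B, hB', hBc⟩ := exists_subset_card_eq (show 4 ≤ (fixSet z : Finset α).card by omega)
    have : z ∈ fixG G B := mem_fixG.2 ⟨hz, fun x hx => mem_fixSet.1 (hB' hx)⟩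
    rw [(hB B hBc).2, Subgroup.mem_bot] at this
    exact hz1 this
  have hzi : ∀ x, z (z x) = x := fun x => by rw [← Equiv.Perm.mul_apply, hzz]; rfl
  obtain ⟨p, hp⟩ := card_pos.1 (show 0 < (fixSet z : Finset α)ᶜ.card by rw [card_compl]; omega)
  obtain ⟨q, hq, hqn⟩ := exists_mem_notMem_of_card_lt_card
    (s := ({p, z p} : Finset α)) (t := (fixSet z : Finset α)ᶜ)
    (card_le_two.trans_lt (by rw [card_compl]; omega))
  rw [mem_compl, mem_fixSet, Equiv.Perm.smul_def] at hp hq
  simp only [mem_insert, mem_singleton, not_or] at hqn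
  set C : Finset α := {p, z p, q, z q}
  have hne : z q ≠ p ∧ z q ≠ z p :=
    ⟨fun e => hqn.2 (by rw [← e, hzi]), fun e => hqn.1 (z.injective e)⟩
  have hCc : C.card = 4 := by
    simp [C, Ne.symm hp, Ne.symm hqn.1, Ne.symm hqn.2, Ne.symm hne.1, Ne.symm hne.2, Ne.symm hq]
  have hst : ∀ x ∈ C, z x ∈ C := fun x hx => by
    simp only [C, mem_insert, mem_singleton] at hx ⊢
    rcases hx with rfl | rfl | rfl | rfl <;> simp [hzi]
  have hmove : ∀ x ∈ C, z x ≠ x := fun x hx => by
    simp only [C, mem_insert, mem_singleton] at hx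
    rcases hx with rfl | rfl | rfl | rfl
    · exact hp
    · rw [hzi]; exact Ne.symm hp
    · exact hq
    · rw [hzi]; exact Ne.symm hq
  set d : Equiv.Perm ↥C := z.subtypePerm fun x => ⟨fun h => hzi x ▸ hst _ h, hst x⟩ with hd
  have hdX : d ∈ inducedPerms G C := ⟨z, hz, fun _ => rfl⟩
  haveI : Fact (Nat.Prime 3) := ⟨Nat.prime_three⟩
  obtain ⟨y, hy⟩ := exists_prime_orderOf_dvd_card' (G := inducedPerms G C) 3 (by rw [(hB C hCc).1]; norm_num)
  let e := (C.equivFinOfCardEq hCc).permCongrHom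
  have hy3 : (y : Equiv.Perm ↥C) * y * y = 1 := by
    have := pow_orderOf_eq_one y
    rw [hy, pow_succ, pow_two] at this
    exact congrArg Subtype.val this
  have hy1 : (y : Equiv.Perm ↥C) ≠ 1 := fun e' => by
    rw [OneMemClass.coe_eq_one.1 e', orderOf_one] at hy; omega
  have hd2 : d * d = 1 := Equiv.ext fun x => Subtype.ext (hzi x)
  have h7 := seven_elements (e y) (e d) (by rw [← map_mul, ← map_mul, hy3, map_one])
    (fun h => hy1 (e.injective (h.trans (map_one e).symm))) (by rw [← map_mul, hd2, map_one])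
    (fun i h => by
      refine hmove _ ((C.equivFinOfCardEq hCc).symm i).2 ?_
      have := congrArg (C.equivFinOfCardEq hCc).symm h
      simp only [e, Equiv.permCongrHom_coe, Equiv.permCongr_apply, Equiv.symm_apply_apply] at this
      exact congrArg Subtype.val this)
  let l : List (inducedPerms G C) :=
    [1, y, y * y, ⟨d, hdX⟩, y * ⟨d, hdX⟩ * y * y, ⟨d, hdX⟩ * (y * ⟨d, hdX⟩ * y * y), y * ⟨d, hdX⟩]
  have hl : l.Nodup := by
    refine List.Nodup.of_map (fun σ : inducedPerms G C => e σ) ?_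
    simpa [l, map_mul] using h7
  letI := Fintype.ofFinite (inducedPerms G C)
  have h6 := (hB C hCc).1
  rw [Nat.card_eq_fintype_card] at h6
  have := hl.length_le_card
  simp [l, h6] at this

theorem arith_exc : ∀ k, k < 6 → ∀ n, n < 10 → ∀ x, x < 24 →
    (3 ≤ k ∧ k + 1 ≤ n ∧ n < 2 * k ∧ x ∣ (k - 1).factorial ∧ x < (k - 1).factorial ∧
      (n - (k - 1)) ∣ k * x ∧ n.descFactorial (k - 2) ∣ n.choose (k - 1) * x ∧
      n.choose (k - 1) * x ∣ n.factorial) →
    (k, n, x) ∈ [(3, 5, 1), (4, 5, 2), (4, 6, 3), (5, 6, 8), (5, 7, 6), (5, 7, 12),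
      (5, 9, 4), (5, 9, 8), (5, 9, 12)] := by
  decide +kernel

/-- The groups that are homogeneous without being correspondingly transitive. -/
theorem exceptional (G : Subgroup (Equiv.Perm α)) {k : ℕ} (hk : 3 ≤ k) (hkn : k ≤ Fintype.card α)
    (ht : IsMultiplyPretransitive G α (k - 2)) (hnt : ¬ IsMultiplyPretransitive G α (k - 1))
    (hh1 : Homog G (k - 1)) (hh : Homog G k) :
    (k = Fintype.card α ∧ G = alternatingGroup α) ∨
      (Fintype.card α = 5 ∧ k = 4 ∧ Nat.card G = 20) ∨
      (Fintype.card α = 6 ∧ k = 5 ∧ Nat.card G = 120) ∨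
      (Fintype.card α = 9 ∧ k = 5 ∧ (Nat.card G = 504 ∨ Nat.card G = 1512)) := by
  classical
  by_cases hkeq : k = Fintype.card α
  · refine Or.inl ⟨hkeq, ?_⟩
    have hle : alternatingGroup α ≤ G := _root_.IsMultiplyPretransitive.alternatingGroup_le α G
      (by rw [Nat.card_eq_fintype_card, ← hkeq]; exact ht)
    refine le_antisymm (fun g hg => by_contra fun hodd => hnt ?_) hle
    have htop : G = ⊤ := eq_top_iff.2 fun τ _ => by
      by_cases hτ : τ ∈ alternatingGroup α
      · exact hle hτ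
      · have hmem : τ * g⁻¹ ∈ alternatingGroup α := by
          rw [Equiv.Perm.mem_alternatingGroup] at hodd hτ ⊢
          rw [map_mul, map_inv, (Int.units_eq_one_or _).resolve_left hτ,
            (Int.units_eq_one_or _).resolve_left hodd]
          decide
        simpa using G.mul_mem (hle hmem) hg
    rw [isMultiplyPretransitive_iff]
    intro x y
    obtain ⟨σ, hσ⟩ := Equiv.Perm.exists_smul_eq_embedding x y
    exact ⟨⟨σ, htop ▸ Subgroup.mem_top σ⟩, hσ⟩
  by_cases hbig : 2 * k ≤ Fintype.card α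
  · exact absurd (pred_transitive G k (by omega) hbig hh) hnt
  by_cases hk6 : 6 ≤ k
  · refine absurd ?_ hnt
    have h := succ_transitive G (r := k - 2) (by omega) (by omega) ht
      (show Homog G (k - 2 + 1) by rwa [show k - 2 + 1 = k - 1 by omega])
    rwa [show k - 2 + 1 = k - 1 by omega] at h
  obtain ⟨x, y, hx, hxlt, hcard, hxy, hB⟩ := homog_data (j := k - 1) (by omega) (by omega) hh1
    (show Homog G (k - 1 + 1) by rwa [show k - 1 + 1 = k by omega]) hnt
  rw [show k - 1 + 1 = k by omega] at hxy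
  have hd := desc_dvd_card ht (by omega)
  rw [hcard] at hd
  have hdvd : Nat.card G ∣ (Fintype.card α).factorial := by
    rw [← Fintype.card_perm, ← Nat.card_eq_fintype_card]
    exact Subgroup.card_subgroup_dvd_card G
  rw [hcard] at hdvd
  have hx24 : x < 24 := by
    have : (k - 1).factorial ≤ 24 :=
      (Nat.factorial_le (show k - 1 ≤ 4 by omega)).trans (by decide)
    omega
  have hmem := arith_exc k (by omega) (Fintype.card α) (by omega) x hx24
    ⟨hk, by omega, by omega, hx, hxlt, ⟨y, hxy⟩, hd, hdvd⟩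
  simp only [List.mem_cons, List.not_mem_nil, or_false, Prod.mk.injEq] at hmem
  rcases hmem with ⟨rfl, hn, rfl⟩ | ⟨rfl, hn, rfl⟩ | ⟨rfl, hn, rfl⟩ | ⟨rfl, hn, rfl⟩ |
    ⟨rfl, hn, rfl⟩ | ⟨rfl, hn, rfl⟩ | ⟨rfl, hn, rfl⟩ | ⟨rfl, hn, rfl⟩ | ⟨rfl, hn, rfl⟩
  · exfalso
    rw [hn, show (5 : ℕ).choose (3 - 1) * 1 = 10 by rfl] at hcard
    obtain ⟨z, hz, hzz, hz1⟩ := exists_involution (H := G) (by rw [hcard]; norm_num)
    obtain ⟨p, hp⟩ : ∃ p, z p ≠ p := by
      by_contra hall
      push Not at hall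
      exact hz1 (Equiv.ext hall)
    have hzi : z (z p) = p := by rw [← Equiv.Perm.mul_apply, hzz]; rfl
    have := two_dvd_induced hz hzz (C := {p, z p}) (by simp [hzi]) (mem_insert_self p _) hp
    rw [(hB _ (card_pair (Ne.symm hp))).1] at this
    omega
  · exact Or.inr (Or.inl ⟨hn, rfl, by rw [hcard, hn]; rfl⟩)
  · exfalso
    rw [hn, show (6 : ℕ).choose (4 - 1) * 3 = 60 by rfl] at hcard
    obtain ⟨a, -, b, -, hab⟩ := one_lt_card.1 (show 1 < (univ : Finset α).card by rw [card_univ]; omega)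
    have hT := card_fixG_mul ht (card_pair hab)
    rw [hn, hcard, show (6 : ℕ).descFactorial (4 - 2) = 30 by rfl] at hT
    obtain ⟨z, hz, hzz, hz1⟩ := exists_involution (H := fixG G {a, b}) (by omega)
    obtain ⟨hzG, hzfix⟩ := mem_fixG.1 hz
    obtain ⟨p, hp⟩ : ∃ p, z p ≠ p := by
      by_contra hall
      push Not at hall
      exact hz1 (Equiv.ext hall)
    have hzi : z (z p) = p := by rw [← Equiv.Perm.mul_apply, hzz]; rfl
    have hza : z a = a := hzfix a (by simp)
    have h1 : a ≠ p := fun e => hp (e ▸ hza)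
    have h2 : a ≠ z p := fun e => h1 (z.injective (hza.trans e))
    have := two_dvd_induced hzG hzz (C := {a, p, z p}) (by simp [hza, hzi]) (p := p) (by simp) hp
    rw [(hB _ (by simp [h1, h2, Ne.symm hp])).1] at this
    omega
  · exact Or.inr (Or.inr (Or.inl ⟨hn, rfl, by rw [hcard, hn]; rfl⟩))
  · exfalso
    refine no_order_210 G hn hB ?_
    rw [hcard, hn]
    decide
  · exfalso
    haveI : IsPretransitive G α := is_one_pretransitive_iff.1 (by
      haveI := ht
      exact MulAction.isMultiplyPretransitive_of_le (n := 5 - 2) (by norm_num)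
        (by rw [Nat.card_eq_fintype_card]; omega))
    obtain ⟨e, m, he, hm, hG⟩ := prime_degree_order (show Nat.Prime 7 by norm_num) G hn
    rw [hcard, hn, show (7 : ℕ).choose (5 - 1) * 12 = 420 by rfl, Nat.mul_assoc] at hG
    exact sylow_false (show Nat.Prime 7 by norm_num) no_sylow_seven he hm (by omega)
  · exact Or.inr (Or.inr (Or.inr ⟨hn, rfl, Or.inl (by rw [hcard, hn]; rfl)⟩))
  · exact (no_order_1008 G hn ht (fun B hB' => (hB B hB').2) (by rw [hcard, hn]; rfl)).elim
  · exact Or.inr (Or.inr (Or.inr ⟨hn, rfl, Or.inr (by rw [hcard, hn]; rfl)⟩))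

end CfsgLib.Perm.LW
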