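import Cfsg.Agent.Lib.Perm.LW.Extend
import Cfsg.Agent.Lib.Perm.EqualStabilizers
import Cfsg.Agent.Lib.Perm.HomogeneousPred
import Cfsg.Agent.Lib.Perm.PrimeSylow

/-!
Orders of homogeneous groups.
-/

set_option autoImplicit false
set_option linter.unusedSectionVars false

namespace CfsgLib.Perm.LW

open MulAction Finset
open scoped Pointwise

variable {α : Type*} [Fintype α] [DecidableEq α] {G : Subgroup (Equiv.Perm α)}

theorem smul_finset_eq_image (g : G) (B : Finset α) : g • B = B.image (g : Equiv.Perm α) := by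
  ext x
  simp [Finset.mem_smul_finset, Subgroup.smul_def]

theorem homog_of_pretransitive {k : ℕ} (h : IsPretransitive G (Set.powersetCard α k)) : Homog G k := by
  intro B C hB hC
  obtain ⟨g, hg⟩ := h.exists_smul_eq ⟨B, hB⟩ ⟨C, hC⟩
  refine ⟨g, g.2, ?_⟩
  rw [← smul_finset_eq_image]
  exact congrArg (fun s : Set.powersetCard α k => (s : Finset α)) hg

theorem pretransitive_of_homog {k : ℕ} (h : Homog G k) : IsPretransitive G (Set.powersetCard α k) := by
  refine ⟨fun ⟨B, hB⟩ ⟨C, hC⟩ => ?_⟩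
  obtain ⟨g, hg, hgC⟩ := h B C hB hC
  refine ⟨⟨g, hg⟩, Subtype.ext ?_⟩
  show (⟨g, hg⟩ : G) • B = C
  rw [smul_finset_eq_image]
  exact hgC

theorem Homog.pred {k : ℕ} (h : Homog G k) (hk : 1 ≤ k) (hkn : 2 * k ≤ Fintype.card α) :
    Homog G (k - 1) := by
  intro B C hB hC
  obtain ⟨g, hg⟩ := CfsgLib.Perm.Homog.pred_homogeneous (G := G) hk (by omega)
    (fun B C hB hC => by
      obtain ⟨g, hg, hgC⟩ := h B C hB hC
      exact ⟨⟨g, hg⟩, by rw [smul_finset_eq_image]; exact hgC⟩)
    (fun q _ hq => by have := Nat.le_of_dvd (by omega) hq; omega) B C hB hC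
  exact ⟨g, g.2, by rw [← smul_finset_eq_image]; exact hg⟩

theorem isMultiplyPretransitive_one_of_homog (h : Homog G 1) : IsMultiplyPretransitive G α 1 :=
  is_one_pretransitive_iff.2 ⟨fun a b => by
    obtain ⟨g, hg, h'⟩ := h {a} {b} (card_singleton a) (card_singleton b)
    exact ⟨⟨g, hg⟩, by simpa using h'⟩⟩

/-- The pointwise stabiliser of a finite set in `G`. -/
def fixG (G : Subgroup (Equiv.Perm α)) (s : Finset α) : Subgroup (Equiv.Perm α) :=
  G ⊓ fixingSubgroup (Equiv.Perm α) (s : Set α)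

theorem mem_fixG {s : Finset α} {g : Equiv.Perm α} : g ∈ fixG G s ↔ g ∈ G ∧ ∀ x ∈ s, g x = x := by
  simp only [fixG, Subgroup.mem_inf, mem_fixingSubgroup_iff]; rfl

theorem card_fixG (s : Finset α) : Nat.card (fixG G s) = Nat.card (fixingSubgroup G (s : Set α)) :=
  Nat.card_congr
    { toFun := fun g => ⟨⟨g, (mem_fixG.1 g.2).1⟩, (mem_fixingSubgroup_iff G).2 (mem_fixG.1 g.2).2⟩
      invFun := fun g => ⟨g.1, mem_fixG.2 ⟨g.1.2, (mem_fixingSubgroup_iff G).1 g.2⟩⟩
      left_inv := fun _ => rfl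
      right_inv := fun _ => rfl }

theorem card_induced_mul (S : Subgroup (Equiv.Perm α)) (Δ : Finset α)
    (hst : ∀ g ∈ S, ∀ x ∈ Δ, g x ∈ Δ) :
    Nat.card (inducedPerms S Δ) * Nat.card (fixG S Δ) = Nat.card S := by
  have hiff : ∀ g ∈ S, ∀ x, g x ∈ Δ ↔ x ∈ Δ := fun g hg x => by
    refine ⟨fun h => ?_, hst g hg x⟩
    have := hst g⁻¹ (S.inv_mem hg) _ h
    simpa using this
  let φ : S →* Equiv.Perm ↥Δ :=
    { toFun := fun g => (g : Equiv.Perm α).subtypePerm (hiff g g.2)
      map_one' := rfl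
      map_mul' := fun _ _ => rfl }
  have hrange : φ.range = inducedPerms S Δ := by
    ext σ
    constructor
    · rintro ⟨g, rfl⟩
      exact ⟨g, g.2, fun _ => rfl⟩
    · rintro ⟨g, hg, h⟩
      exact ⟨⟨g, hg⟩, Equiv.ext fun x => Subtype.ext (h x)⟩
  have hker : Nat.card φ.ker = Nat.card (fixG S Δ) := Nat.card_congr
    { toFun := fun g => ⟨g.1, mem_fixG.2 ⟨g.1.2, fun x hx =>
        congrArg (fun σ : Equiv.Perm ↥Δ => (σ ⟨x, hx⟩ : α)) (MonoidHom.mem_ker.1 g.2)⟩⟩
      invFun := fun g => ⟨⟨g, (mem_fixG.1 g.2).1⟩, MonoidHom.mem_ker.2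
        (Equiv.ext fun x => Subtype.ext ((mem_fixG.1 g.2).2 x x.2))⟩
      left_inv := fun _ => rfl
      right_inv := fun _ => rfl }
  rw [← hrange, ← hker, ← Subgroup.index_ker, mul_comm]
  exact φ.ker.card_mul_index

theorem card_fixG_eq {B C : Finset α} {g : Equiv.Perm α} (hg : g ∈ G) (hBC : B.image g = C) :
    Nat.card (fixG G B) = Nat.card (fixG G C) := by
  subst hBC
  refine Nat.card_congr
    { toFun := fun q => ⟨g * q * g⁻¹, ?_⟩
      invFun := fun q => ⟨g⁻¹ * q * g, ?_⟩
      left_inv := fun q => Subtype.ext (by simp [mul_assoc])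
      right_inv := fun q => Subtype.ext (by simp [mul_assoc]) }
  · obtain ⟨hq, hfix⟩ := mem_fixG.1 q.2
    refine mem_fixG.2 ⟨G.mul_mem (G.mul_mem hg hq) (G.inv_mem hg), fun x hx => ?_⟩
    obtain ⟨b, hb, rfl⟩ := mem_image.1 hx
    simp [hfix b hb]
  · obtain ⟨hq, hfix⟩ := mem_fixG.1 q.2
    refine mem_fixG.2 ⟨G.mul_mem (G.mul_mem (G.inv_mem hg) hq) hg, fun x hx => ?_⟩
    simp [hfix _ (mem_image_of_mem g hx)]

theorem card_induced_eq {B C : Finset α} {g : Equiv.Perm α} (hg : g ∈ G) (hBC : B.image g = C) :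
    Nat.card (inducedPerms G B) = Nat.card (inducedPerms G C) := by
  have hm : ∀ x : ↥B, g x ∈ C := fun x => hBC ▸ mem_image_of_mem g x.2
  let e : ↥B ≃ ↥C := Equiv.ofBijective (fun x => ⟨g x, hm x⟩)
    ⟨fun x y h => Subtype.ext (g.injective (congrArg Subtype.val h)), fun y => by
      obtain ⟨x, hx, hxy⟩ := mem_image.1 (hBC ▸ y.2 : (y : α) ∈ B.image g)
      exact ⟨⟨x, hx⟩, Subtype.ext hxy⟩⟩
  have he : ∀ z : ↥C, g⁻¹ (z : α) = e.symm z := fun z => by
    rw [Equiv.Perm.inv_def, Equiv.symm_apply_eq]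
    exact (congrArg Subtype.val (e.apply_symm_apply z)).symm
  refine Nat.card_congr
    { toFun := fun σ => ⟨e.permCongr σ.1, ?_⟩
      invFun := fun σ => ⟨e.symm.permCongr σ.1, ?_⟩
      left_inv := fun σ => Subtype.ext (Equiv.ext fun x => by simp)
      right_inv := fun σ => Subtype.ext (Equiv.ext fun x => by simp) }
  · obtain ⟨q, hq, hqσ⟩ := σ.2
    refine ⟨g * q * g⁻¹, G.mul_mem (G.mul_mem hg hq) (G.inv_mem hg), fun y => ?_⟩
    rw [Equiv.permCongr_apply, Equiv.Perm.mul_apply, Equiv.Perm.mul_apply, he, hqσ]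
    rfl
  · obtain ⟨q, hq, hqσ⟩ := σ.2
    refine ⟨g⁻¹ * q * g, G.mul_mem (G.mul_mem (G.inv_mem hg) hq) hg, fun x => ?_⟩
    rw [Equiv.permCongr_apply, Equiv.symm_symm, Equiv.Perm.mul_apply, Equiv.Perm.mul_apply]
    exact (congrArg (g⁻¹ : Equiv.Perm α) (hqσ (e x))).trans (he _)

/-- The order of a transitive group on `k`-sets. -/
theorem card_homog {k : ℕ} (h : Homog G k) (B : Finset α) (hB : B.card = k) :
    Nat.card G = (Fintype.card α).choose k * (Nat.card (inducedPerms G B) * Nat.card (fixG G B)) := by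
  haveI := pretransitive_of_homog h
  let b : Set.powersetCard α k := ⟨B, hB⟩
  let S : Subgroup (Equiv.Perm α) := (stabilizer G b).map G.subtype
  have hSmem : ∀ g, g ∈ S ↔ g ∈ G ∧ B.image g = B := fun g => by
    constructor
    · rintro ⟨q, hq, rfl⟩
      refine ⟨q.2, ?_⟩
      rw [Subgroup.coe_subtype, ← smul_finset_eq_image]
      exact congrArg (fun s : Set.powersetCard α k => (s : Finset α)) hq
    · rintro ⟨hg, hgB⟩
      exact ⟨⟨g, hg⟩, Subtype.ext (by
        show (⟨g, hg⟩ : G) • B = B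
        rw [smul_finset_eq_image]
        exact hgB), rfl⟩
  have hst : ∀ g ∈ S, ∀ x ∈ B, g x ∈ B := fun g hg x hx =>
    ((hSmem g).1 hg).2.le (mem_image_of_mem g hx)
  have hind : inducedPerms S B = inducedPerms G B := by
    ext σ
    constructor
    · rintro ⟨g, hg, h⟩
      exact ⟨g, ((hSmem g).1 hg).1, h⟩
    · rintro ⟨g, hg, h⟩
      refine ⟨g, (hSmem g).2 ⟨hg, eq_of_subset_of_card_le (fun x hx => ?_)
        (by rw [card_image_of_injective _ g.injective])⟩, h⟩
      obtain ⟨y, hy, rfl⟩ := mem_image.1 hx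
      rw [h ⟨y, hy⟩]
      exact (σ ⟨y, hy⟩).2
  have hfix : fixG S B = fixG G B := by
    ext g
    simp only [mem_fixG, hSmem]
    refine ⟨fun h => ⟨h.1.1, h.2⟩, fun h => ⟨⟨h.1, ?_⟩, h.2⟩⟩
    rw [image_congr (fun x hx => h.2 x hx), image_id']
  have := (stabilizer G b).card_mul_index
  rw [index_stabilizer_of_transitive, Set.powersetCard.card, Nat.card_eq_fintype_card (α := α)] at this
  rw [← this, mul_comm ((Fintype.card α).choose k), ← hind, ← hfix, card_induced_mul S B hst]
  congr 1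
  exact Nat.card_congr ((stabilizer G b).equivMapOfInjective G.subtype G.subtype_injective).toEquiv

/-- A transitive group on tuples has order divisible by their number. -/
theorem desc_dvd_card {m : ℕ} (h : IsMultiplyPretransitive G α m) (hm : m ≤ Fintype.card α) :
    (Fintype.card α).descFactorial m ∣ Nat.card G := by
  obtain ⟨x⟩ : Nonempty (Fin m ↪ α) := Function.Embedding.nonempty_of_card_le (by simpa using hm)
  have hidx : (stabilizer G x).index = Nat.card (Fin m ↪ α) := by
    rw [MulAction.index_stabilizer]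
    refine (congrArg Set.ncard (Set.eq_univ_of_forall fun y => ?_)).trans (Set.ncard_univ _)
    exact h.exists_smul_eq x y
  rw [← (stabilizer G x).card_mul_index, hidx, Nat.card_eq_fintype_card (α := Fin m ↪ α),
    Fintype.card_embedding_eq, Fintype.card_fin]
  exact dvd_mul_left _ _

theorem card_fixG_mul {m : ℕ} (h : IsMultiplyPretransitive G α m) {s : Finset α} (hs : s.card = m) :
    Nat.card (fixG G s) * (Fintype.card α).descFactorial m = Nat.card G := by
  have h1 := h.index_of_fixingSubgroup_mul (s := (s : Set α)) (by rw [Set.ncard_coe_finset, hs])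
  have hle : m ≤ Fintype.card α := hs ▸ card_le_univ s
  rw [Nat.card_eq_fintype_card (α := α), ← Nat.factorial_mul_descFactorial hle, mul_comm _ (Nat.factorial _)] at h1
  rw [card_fixG, ← Nat.eq_of_mul_eq_mul_left (Nat.factorial_pos _) h1]
  exact Subgroup.card_mul_index _

/-- The arithmetic of a homogeneous group that is not transitive on tuples. -/
theorem homog_data {j : ℕ} (hj : 2 ≤ j + 1) (hjn : j + 1 ≤ Fintype.card α) (h : Homog G j)
    (h' : Homog G (j + 1)) (hnt : ¬ IsMultiplyPretransitive G α j) :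
    ∃ x y : ℕ, x ∣ j.factorial ∧ x < j.factorial ∧ Nat.card G = (Fintype.card α).choose j * x ∧
      (j + 1) * x = (Fintype.card α - j) * y ∧
      (∀ B : Finset α, B.card = j → Nat.card (inducedPerms G B) = x ∧ fixG G B = ⊥) := by
  obtain ⟨B, hB, hBtop⟩ : ∃ B : Finset α, B.card = j ∧ inducedPerms G B ≠ ⊤ := by
    by_contra hall
    push Not at hall
    exact hnt (trans_of_induced_top h hall)
  obtain ⟨C, -, hC⟩ := exists_subset_card_eq (show j + 1 ≤ (univ : Finset α).card by rw [card_univ]; omega)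
  have hl : ∀ S : Finset α, S.card = j → Nat.card (fixG G S) = 1 := by
    intro S hS
    by_contra hne
    refine hnt ?_
    have := CfsgLib.Perm.isMultiplyPretransitive_of_card_fixing G (k := j + 1) (by
        by_contra hj0
        have : j = 0 := by omega
        subst this
        exact hnt (is_zero_pretransitive' (G := G) (α := α))) hjn
      (Nat.card (fixG G S)) (Nat.card (fixG G C))
      (by have : 0 < Nat.card (fixG G S) := Nat.card_pos; omega)
      (fun s hs => by
        obtain ⟨g, hg, hgs⟩ := h s S (by omega) hS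
        rw [← card_fixG]; exact card_fixG_eq hg hgs)
      (fun s hs => by
        obtain ⟨g, hg, hgs⟩ := h' s C hs hC
        rw [← card_fixG]; exact card_fixG_eq hg hgs)
    simpa using this
  have hcard := card_homog h B hB
  rw [hl B hB, mul_one] at hcard
  have hcard' := card_homog h' C hC
  have hperm : Nat.card (Equiv.Perm ↥B) = j.factorial := by
    rw [Nat.card_perm, Nat.card_eq_fintype_card, Fintype.card_coe, hB]
  have hdvd : Nat.card (inducedPerms G B) ∣ j.factorial := hperm ▸ Subgroup.card_subgroup_dvd_card _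
  refine ⟨_, Nat.card (inducedPerms G C) * Nat.card (fixG G C), hdvd, ?_, hcard, ?_, fun S hS => ?_⟩
  · refine lt_of_le_of_ne (Nat.le_of_dvd (Nat.factorial_pos j) hdvd) fun e => hBtop ?_
    exact Subgroup.eq_top_of_card_eq _ (e.trans hperm.symm)
  · have h3 := Nat.choose_succ_right_eq (Fintype.card α) j
    refine Nat.eq_of_mul_eq_mul_left (Nat.choose_pos (show j ≤ Fintype.card α by omega)) ?_
    rw [← mul_assoc, ← mul_assoc, ← h3]
    calc (Fintype.card α).choose j * (j + 1) * Nat.card (inducedPerms G B)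
        = Nat.card G * (j + 1) := by rw [hcard]; ring
      _ = _ := by rw [hcard']; ring
  · obtain ⟨g, hg, hgS⟩ := h B S hB hS
    exact ⟨(card_induced_eq hg hgS).symm, Subgroup.eq_bot_of_card_eq _ (hl S hS)⟩

/-- The order of a transitive group of prime degree. -/
theorem prime_degree_order {β : Type*} [Fintype β] {p : ℕ} (hp : p.Prime)
    (M : Subgroup (Equiv.Perm β)) (hβ : Fintype.card β = p) [IsPretransitive M β] :
    ∃ e m : ℕ, e ∣ p - 1 ∧ m % p = 1 ∧ Nat.card M = p * e * m := by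
  haveI : Fact p.Prime := ⟨hp⟩
  obtain ⟨P⟩ : Nonempty (Sylow p M) := inferInstance
  have hN := CfsgLib.Perm.card_normalizer_sylow_dvd hβ P
  obtain ⟨e, he⟩ : p ∣ Nat.card (Subgroup.normalizer ((P : Subgroup M) : Set M)) := by
    refine Dvd.dvd.trans ?_ (Subgroup.card_dvd_of_le (Subgroup.le_normalizer (H := (P : Subgroup M))))
    rw [CfsgLib.Perm.card_sylow_eq_prime hβ P]
  rw [he] at hN
  refine ⟨e, Nat.card (Sylow p M), (Nat.mul_dvd_mul_iff_left hp.pos).1 hN, ?_, ?_⟩
  · have := card_sylow_modEq_one p M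
    rwa [Nat.ModEq, Nat.mod_eq_of_lt hp.one_lt] at this
  · rw [P.card_eq_index_normalizer, ← he]
    exact (Subgroup.card_mul_index _).symm

/-- The order of a transitive point stabiliser of prime degree. -/
theorem prime_degree_stabilizer {p : ℕ} (hp : p.Prime) (h2 : IsMultiplyPretransitive G α 2)
    (hα : Fintype.card α = p + 1) :
    ∃ e m : ℕ, e ∣ p - 1 ∧ m % p = 1 ∧ Nat.card G = (p + 1) * (p * e * m) := by
  obtain ⟨a⟩ : Nonempty α := Fintype.card_pos_iff.1 (by omega)
  set S := fixG G {a}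
  set Δ := (univ : Finset α).erase a with hΔ
  have hΔc : Δ.card = p := by rw [hΔ, card_erase_of_mem (mem_univ a), card_univ, hα]; rfl
  have hst : ∀ g ∈ S, ∀ x ∈ Δ, g x ∈ Δ := fun g hg x hx => by
    simp only [hΔ, mem_erase, mem_univ, and_true] at hx ⊢
    exact fun e => hx (g.injective (e.trans ((mem_fixG.1 hg).2 a (mem_singleton_self a)).symm))
  have hker : fixG S Δ = ⊥ := (Subgroup.eq_bot_iff_forall _).2 fun g hg => Equiv.ext fun x => by
    by_cases hx : x = a
    · subst hx
      exact (mem_fixG.1 (mem_fixG.1 hg).1).2 x (mem_singleton_self x)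
    · exact (mem_fixG.1 hg).2 x (by simp [hΔ, hx])
  have hc := card_induced_mul S Δ hst
  rw [hker, Subgroup.card_bot, mul_one] at hc
  haveI : IsPretransitive (inducedPerms S Δ) ↥Δ := ⟨fun x y => by
    have hx : (x : α) ≠ a := (mem_erase.1 x.2).1
    have hy : (y : α) ≠ a := (mem_erase.1 y.2).1
    obtain ⟨g, hg⟩ := exists_smul_of_nodup h2 (l := [a, (x : α)]) (l' := [a, (y : α)])
      (by simp [Ne.symm hx]) (by simp [Ne.symm hy]) rfl rfl
    simp only [List.map_cons, List.map_nil, List.cons.injEq, and_true] at hg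
    have hgS : (g : Equiv.Perm α) ∈ S := mem_fixG.2 ⟨g.2, fun z hz => by
      rw [mem_singleton] at hz; subst hz; exact hg.1⟩
    exact ⟨⟨(g : Equiv.Perm α).subtypePerm (fun z => ⟨fun h => by
      have := hst _ (S.inv_mem hgS) _ h
      simpa using this, hst _ hgS z⟩), _, hgS, fun _ => rfl⟩, Subtype.ext hg.2⟩⟩
  obtain ⟨e, m, he, hm, hcard⟩ := prime_degree_order hp (inducedPerms S Δ) (by rw [Fintype.card_coe, hΔc])
  refine ⟨e, m, he, hm, ?_⟩
  rw [← hcard, hc]
  have := card_fixG_mul (m := 1) (MulAction.isMultiplyPretransitive_of_le (G := G) (α := α) (n := 2)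
    one_le_two (by rw [Nat.card_eq_fintype_card]; have := hp.two_le; omega)) (card_singleton a)
  rw [Nat.descFactorial_one, hα] at this
  rw [← this, mul_comm]

end CfsgLib.Perm.LW
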