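import Cfsg.Agent.Lib.Perm.LW.Tools

/-!
Four-transitive groups in which only the identity fixes five points: the stabiliser of four points
is transitive on the other points, or it is trivial and the degree is `6` or `11`.
-/

set_option autoImplicit false
set_option linter.unusedSectionVars false

namespace CfsgLib.Perm.LW

open MulAction Finset

/-- `x` fixes `a`, `b` and interchanges `c`, `d`. -/
def IsTr {H β : Type*} [Group H] [MulAction H β] (x : H) (a b c d : β) : Prop :=
  x • a = a ∧ x • b = b ∧ x • c = d ∧ x • d = c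

/-- `x` interchanges `a`, `b` and interchanges `c`, `d`. -/
def IsDb {H β : Type*} [Group H] [MulAction H β] (x : H) (a b c d : β) : Prop :=
  x • a = b ∧ x • b = a ∧ x • c = d ∧ x • d = c

/-- The stabiliser of four points. -/
def T4 (H : Type*) {β : Type*} [Group H] [MulAction H β] (a b c d : β) : Subgroup H :=
  stabilizer H a ⊓ stabilizer H b ⊓ stabilizer H c ⊓ stabilizer H d

section Basic

variable {H β : Type*} [Group H] [MulAction H β]

theorem mem_T4 {g : H} {a b c d : β} :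
    g ∈ T4 H a b c d ↔ g • a = a ∧ g • b = b ∧ g • c = c ∧ g • d = d := by
  simp [T4, and_assoc]

theorem T4_swap_pairs (a b c d : β) : T4 H c d a b = T4 H a b c d := by
  ext g; simp only [mem_T4]; tauto

theorem T4_mid (a b c d : β) : T4 H a c b d = T4 H a b c d := by
  ext g; simp only [mem_T4]; tauto

theorem T4_cycle (a b c d : β) : T4 H a d b c = T4 H a b c d := by
  ext g; simp only [mem_T4]; tauto

theorem IsTr.inv_mul_mem {x y : H} {a b c d : β} (hx : IsTr x a b c d) (hy : IsTr y a b c d) :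
    x⁻¹ * y ∈ T4 H a b c d := by
  obtain ⟨x1, x2, x3, x4⟩ := hx
  obtain ⟨y1, y2, y3, y4⟩ := hy
  simp only [mem_T4, mul_smul, y1, y2, y3, y4, inv_smul_eq_iff, x1, x2, x3, x4, and_self]

theorem IsDb.inv_mul_mem {x y : H} {a b c d : β} (hx : IsDb x a b c d) (hy : IsDb y a b c d) :
    x⁻¹ * y ∈ T4 H a b c d := by
  obtain ⟨x1, x2, x3, x4⟩ := hx
  obtain ⟨y1, y2, y3, y4⟩ := hy
  simp only [mem_T4, mul_smul, y1, y2, y3, y4, inv_smul_eq_iff, x1, x2, x3, x4, and_self]

theorem IsTr.mul_mem {x τ : H} {a b c d : β} (hx : IsTr x a b c d) (hτ : τ ∈ T4 H a b c d) :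
    IsTr (x * τ) a b c d := by
  obtain ⟨t1, t2, t3, t4⟩ := mem_T4.1 hτ
  simpa only [IsTr, mul_smul, t1, t2, t3, t4] using hx

theorem IsDb.mul_mem {x τ : H} {a b c d : β} (hx : IsDb x a b c d) (hτ : τ ∈ T4 H a b c d) :
    IsDb (x * τ) a b c d := by
  obtain ⟨t1, t2, t3, t4⟩ := mem_T4.1 hτ
  simpa only [IsDb, mul_smul, t1, t2, t3, t4] using hx

theorem IsTr.normalizes {x τ : H} {a b c d : β} (hx : IsTr x a b c d) (hτ : τ ∈ T4 H a b c d) :
    x * τ * x⁻¹ ∈ T4 H a b c d := by
  obtain ⟨x1, x2, x3, x4⟩ := hx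
  obtain ⟨t1, t2, t3, t4⟩ := mem_T4.1 hτ
  simp only [mem_T4, mul_smul, inv_smul_eq_iff.2 x1.symm, inv_smul_eq_iff.2 x2.symm,
    inv_smul_eq_iff.2 x3.symm, inv_smul_eq_iff.2 x4.symm, t1, t2, t3, t4, x1, x2, x3, x4, and_self]

theorem IsDb.normalizes {x τ : H} {a b c d : β} (hx : IsDb x a b c d) (hτ : τ ∈ T4 H a b c d) :
    x * τ * x⁻¹ ∈ T4 H a b c d := by
  obtain ⟨x1, x2, x3, x4⟩ := hx
  obtain ⟨t1, t2, t3, t4⟩ := mem_T4.1 hτ
  simp only [mem_T4, mul_smul, inv_smul_eq_iff.2 x1.symm, inv_smul_eq_iff.2 x2.symm,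
    inv_smul_eq_iff.2 x3.symm, inv_smul_eq_iff.2 x4.symm, t1, t2, t3, t4, x1, x2, x3, x4, and_self]

/-- The product of the two transpositional elements is a double one. -/
theorem IsTr.mul_tr {x y : H} {a b c d : β} (hx : IsTr x a b c d) (hy : IsTr y c d a b) :
    IsDb (x * y) a b c d := by
  obtain ⟨x1, x2, x3, x4⟩ := hx
  obtain ⟨y1, y2, y3, y4⟩ := hy
  simp only [IsDb, mul_smul, y1, y2, y3, y4, x1, x2, x3, x4, and_self]

theorem IsDb.mul_db {x y : H} {a b c d : β} (hx : IsDb x a b c d) (hy : IsDb y a c b d) :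
    IsDb (x * y) a d b c := by
  obtain ⟨x1, x2, x3, x4⟩ := hx
  obtain ⟨y1, y2, y3, y4⟩ := hy
  simp only [IsDb, mul_smul, y1, y2, y3, y4, x1, x2, x3, x4, and_self]

/-- An involution acting on a finite group without non-trivial fixed points inverts it. -/
theorem invert [Finite H] (T : Subgroup H) {x : H} (hx : x * x = 1)
    (hn : ∀ τ ∈ T, x * τ * x⁻¹ ∈ T) (hC : ∀ τ ∈ T, τ * x = x * τ → τ = 1) :
    ∀ σ ∈ T, x * σ * x⁻¹ = σ⁻¹ := by
  have hxi : x⁻¹ = x := inv_eq_of_mul_eq_one_right hx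
  let f : T → T := fun τ => ⟨x⁻¹ * (↑τ * x * (↑τ)⁻¹), by
    rw [← mul_assoc, ← mul_assoc]
    refine mul_mem ?_ (inv_mem τ.2)
    have := hn τ τ.2
    rwa [hxi] at this ⊢⟩
  have hf : Function.Injective f := fun τ σ h => by
    have h' : (τ : H) * x * (↑τ)⁻¹ = σ * x * (↑σ)⁻¹ := mul_left_cancel (congrArg Subtype.val h)
    refine Subtype.ext (inv_mul_eq_one.1 (hC _ (mul_mem (inv_mem σ.2) τ.2) ?_)).symm
    calc (↑σ : H)⁻¹ * ↑τ * x = (↑σ)⁻¹ * (↑τ * x * (↑τ)⁻¹) * ↑τ := by group
      _ = x * ((↑σ)⁻¹ * ↑τ) := by rw [h']; group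
  intro σ hσ
  obtain ⟨τ, hτ⟩ := (Finite.injective_iff_surjective.1 hf) ⟨σ, hσ⟩
  have h1 : x * σ = τ * x * (↑τ)⁻¹ := by
    have h3 : x⁻¹ * ((τ : H) * x * (↑τ)⁻¹) = σ := congrArg Subtype.val hτ
    rw [← h3, mul_inv_cancel_left]
  have h2 : (x * σ) * (x * σ) = 1 := by
    rw [h1]
    calc (τ : H) * x * (↑τ)⁻¹ * (τ * x * (↑τ)⁻¹) = τ * (x * x) * (↑τ)⁻¹ := by group
      _ = 1 := by rw [hx, mul_one, mul_inv_cancel]
  rw [hxi]
  exact eq_inv_of_mul_eq_one_left (by rw [← h2]; group)

theorem commute_of_invert {T : Subgroup H} {x : H} (hinv : ∀ σ ∈ T, x * σ * x⁻¹ = σ⁻¹) {σ τ : H}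
    (hσ : σ ∈ T) (hτ : τ ∈ T) : σ * τ = τ * σ := by
  have h := hinv _ (mul_mem hσ hτ)
  rw [← conj_mul, hinv σ hσ, hinv τ hτ, ← mul_inv_rev, inv_inj] at h
  exact h.symm

/-- The product of two inverting elements centralises, and so does its coset. -/
theorem centralize_coset {T : Subgroup H} {x y d : H} (hix : ∀ σ ∈ T, x * σ * x⁻¹ = σ⁻¹)
    (hiy : ∀ σ ∈ T, y * σ * y⁻¹ = σ⁻¹) (hd : (x * y)⁻¹ * d ∈ T) {σ : H} (hσ : σ ∈ T) :
    d * σ = σ * d := by
  obtain ⟨ρ, hρ, rfl⟩ : ∃ ρ ∈ T, d = x * y * ρ := ⟨_, hd, by group⟩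
  have h : x * y * σ * (x * y)⁻¹ = σ := by
    calc x * y * σ * (x * y)⁻¹ = x * (y * σ * y⁻¹) * x⁻¹ := by group
      _ = σ := by rw [hiy σ hσ, hix _ (inv_mem hσ), inv_inv]
  calc x * y * ρ * σ = x * y * (ρ * σ) := by group
    _ = x * y * σ * (x * y)⁻¹ * (x * y) * ρ := by rw [commute_of_invert hix hρ hσ]; group
    _ = σ * (x * y * ρ) := by rw [h]; group

/-- A coset whose members commute with an odd group contains at most one involution. -/
theorem eq_of_centralize {T : Subgroup H} (hodd : Odd (Nat.card T)) {x y : H} (hx : x * x = 1)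
    (hy : y * y = 1) (hmem : x⁻¹ * y ∈ T) (hc : ∀ σ ∈ T, x * σ = σ * x) : x = y := by
  set ρ := x⁻¹ * y with hρ
  have hy' : y = x * ρ := by rw [hρ]; group
  have h2 : ρ * ρ = 1 := by
    rw [hy', mul_assoc, ← mul_assoc ρ, ← hc ρ hmem, mul_assoc, ← mul_assoc, hx, one_mul] at hy
    exact hy
  have h1 : orderOf ρ = 1 := by
    refine Nat.Coprime.eq_one_of_dvd ?_ (T.orderOf_dvd_natCard hmem)
    exact (Nat.Coprime.of_dvd_left (orderOf_dvd_of_pow_eq_one (by rw [pow_two, h2]))
      (Nat.coprime_two_left.2 hodd))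
  rw [hy', orderOf_eq_one_iff.1 h1, mul_one]

end Basic

section Counting

variable {H β : Type*} [Group H] [Fintype H] [DecidableEq H] [MulAction H β] [Fintype β] [DecidableEq β]

theorem exists_four {s : Finset β} (h : 4 ≤ s.card) :
    ∃ a b c d : β, [a, b, c, d].Nodup ∧ a ∈ s ∧ b ∈ s ∧ c ∈ s ∧ d ∈ s := by
  obtain ⟨t, hts, ht⟩ := exists_subset_card_eq h
  obtain ⟨a, b, c, d, he⟩ : ∃ a b c d, t.toList = [a, b, c, d] := by
    have hl : t.toList.length = 4 := by rw [length_toList, ht]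
    match t.toList, hl with
    | [a, b, c, d], _ => exact ⟨a, b, c, d, rfl⟩
  have hm : ∀ p ∈ [a, b, c, d], p ∈ s := fun p hp => hts (mem_toList.1 (he ▸ hp))
  exact ⟨a, b, c, d, he ▸ t.nodup_toList, hm a (by simp), hm b (by simp), hm c (by simp), hm d (by simp)⟩

theorem outside_free (hfive : ∀ g : H, g ≠ 1 → (fixSet g : Finset β).card ≤ 4) {a b c d p : β}
    (hn : [a, b, c, d].Nodup) (hp : p ∉ [a, b, c, d]) {τ : H} (hτ : τ ∈ T4 H a b c d)
    (h : τ • p = p) : τ = 1 := by
  by_contra hne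
  obtain ⟨t1, t2, t3, t4⟩ := mem_T4.1 hτ
  have hsub : [p, a, b, c, d].toFinset ⊆ fixSet τ := fun x hx => by
    rw [List.mem_toFinset] at hx
    simp only [List.mem_cons, List.not_mem_nil, or_false] at hx
    rcases hx with rfl | rfl | rfl | rfl | rfl <;> simp [t1, t2, t3, t4, h]
  have := (card_le_card hsub).trans (hfive τ hne)
  rw [List.toFinset_card_of_nodup (List.nodup_cons.2 ⟨hp, hn⟩)] at this
  simp at this

/-- The points outside a quadruple. -/
def outside (a b c d : β) : Finset β := univ.filter fun p => p ∉ [a, b, c, d]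

theorem mem_outside {a b c d p : β} : p ∈ outside a b c d ↔ p ∉ [a, b, c, d] := by simp [outside]

theorem card_outside {a b c d : β} (hn : [a, b, c, d].Nodup) :
    (outside a b c d).card = Fintype.card β - 4 := by
  rw [show outside a b c d = [a, b, c, d].toFinsetᶜ by ext p; simp [outside], card_compl,
    List.toFinset_card_of_nodup hn]
  rfl

theorem T4_maps_outside {a b c d p : β} {τ : H} (hτ : τ ∈ T4 H a b c d) (hp : p ∈ outside a b c d) :
    τ • p ∈ outside a b c d := by
  obtain ⟨t1, t2, t3, t4⟩ := mem_T4.1 hτ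
  simp only [mem_outside, List.mem_cons, List.not_mem_nil, or_false, not_or] at hp ⊢
  exact ⟨fun h => hp.1 (smul_left_cancel τ (h.trans t1.symm)),
    fun h => hp.2.1 (smul_left_cancel τ (h.trans t2.symm)),
    fun h => hp.2.2.1 (smul_left_cancel τ (h.trans t3.symm)),
    fun h => hp.2.2.2 (smul_left_cancel τ (h.trans t4.symm))⟩

/-- The orbit of a point under the stabiliser of four points. -/
noncomputable def orb (a b c d p : β) : Finset β := by
  classical exact (univ.filter fun τ : H => τ ∈ T4 H a b c d).image fun τ => τ • p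

theorem mem_orb {a b c d p q : β} :
    q ∈ orb (H := H) a b c d p ↔ ∃ τ ∈ T4 H a b c d, τ • p = q := by
  classical simp [orb]

theorem orb_subset {a b c d p : β} (hp : p ∈ outside a b c d) :
    orb (H := H) a b c d p ⊆ outside a b c d := fun q hq => by
  obtain ⟨τ, hτ, rfl⟩ := mem_orb.1 hq
  exact T4_maps_outside hτ hp

theorem card_orb (hfive : ∀ g : H, g ≠ 1 → (fixSet g : Finset β).card ≤ 4) {a b c d p : β}
    (hn : [a, b, c, d].Nodup) (hp : p ∈ outside a b c d) :
    (orb (H := H) a b c d p).card = Nat.card (T4 H a b c d) := by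
  classical
  rw [orb, card_image_of_injOn fun τ hτ σ hσ h => ?_, Nat.card_eq_fintype_card, Fintype.card_subtype]
  simp only [coe_filter, mem_univ, true_and, Set.mem_setOf_eq] at hτ hσ
  refine (inv_mul_eq_one.1 (outside_free hfive hn (mem_outside.1 hp) (mul_mem (inv_mem hσ) hτ) ?_)).symm
  rw [mul_smul, inv_smul_eq_iff]
  exact h

theorem card_T4_eq (h4 : IsMultiplyPretransitive H β 4) {a b c d a' b' c' d' : β}
    (hn : [a, b, c, d].Nodup) (hn' : [a', b', c', d'].Nodup) :
    Nat.card (T4 H a b c d) = Nat.card (T4 H a' b' c' d') := by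
  obtain ⟨g, g1, g2, g3, g4⟩ := exists_smul₄ h4 hn hn'
  refine Nat.card_congr
    { toFun := fun τ => ⟨g * τ * g⁻¹, ?_⟩
      invFun := fun τ => ⟨g⁻¹ * τ * g, ?_⟩
      left_inv := fun τ => Subtype.ext (by simp [mul_assoc])
      right_inv := fun τ => Subtype.ext (by simp [mul_assoc]) }
  · obtain ⟨t1, t2, t3, t4⟩ := mem_T4.1 τ.2
    simp only [mem_T4, mul_smul, inv_smul_eq_iff.2 g1.symm, inv_smul_eq_iff.2 g2.symm,
      inv_smul_eq_iff.2 g3.symm, inv_smul_eq_iff.2 g4.symm, t1, t2, t3, t4, g1, g2, g3, g4, and_self]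
  · obtain ⟨t1, t2, t3, t4⟩ := mem_T4.1 τ.2
    simp only [mem_T4, mul_smul, inv_smul_eq_iff, g1, g2, g3, g4, t1, t2, t3, t4, and_self]

/-- An involution moving three points is conjugate into any double coset. -/
theorem exists_conj_db (h4 : IsMultiplyPretransitive H β 4) {x : H} (hx : x * x = 1)
    (hm : (fixSet x : Finset β).card + 3 ≤ Fintype.card β) {a b c d : β} (hn : [a, b, c, d].Nodup) :
    ∃ g : H, IsDb (g * x * g⁻¹) a b c d := by
  obtain ⟨p, hp⟩ := card_pos.1 (show 0 < (fixSet x : Finset β)ᶜ.card by rw [card_compl]; omega)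
  obtain ⟨q, hq, hqne⟩ := exists_mem_notMem_of_card_lt_card
    (s := ({p, x • p} : Finset β)) (t := (fixSet x : Finset β)ᶜ) (by
      rw [card_compl]
      exact lt_of_le_of_lt card_le_two (by omega))
  rw [mem_compl, mem_fixSet] at hp hq
  simp only [mem_insert, mem_singleton, not_or] at hqne
  have hxx : ∀ r : β, x • x • r = r := fun r => by rw [← mul_smul, hx, one_smul]
  obtain ⟨g, g1, g2, g3, g4⟩ := exists_smul₄ h4 (a := p) (b := x • p) (c := q) (d := x • q) (by
    simp only [List.nodup_cons, List.mem_cons, List.not_mem_nil, or_false, not_or, List.nodup_nil,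
      and_true, not_false_eq_true]
    exact ⟨⟨Ne.symm hp, Ne.symm hqne.1, fun e => hqne.2 (by rw [e, hxx])⟩,
      ⟨Ne.symm hqne.2, fun e => hqne.1 (smul_left_cancel x e).symm⟩, Ne.symm hq⟩) hn
  refine ⟨g, ?_⟩
  simp only [IsDb, mul_smul, inv_smul_eq_iff.2 g1.symm, inv_smul_eq_iff.2 g2.symm,
    inv_smul_eq_iff.2 g3.symm, inv_smul_eq_iff.2 g4.symm, hxx, g1, g2, g3, g4, and_self]

theorem card_coset_tr (h4 : IsMultiplyPretransitive H β 4) {a b c d : β} (hn : [a, b, c, d].Nodup)
    [DecidablePred fun x : H => IsTr x a b c d] :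
    (univ.filter fun x : H => IsTr x a b c d).card = Nat.card (T4 H a b c d) := by
  classical
  obtain ⟨g, hg⟩ : ∃ g : H, IsTr g a b c d := by
    obtain ⟨g, h⟩ := exists_smul₄ h4 hn (a' := a) (b' := b) (c' := d) (d' := c) (by
      simp only [List.nodup_cons, List.mem_cons, List.not_mem_nil, or_false, not_or, List.nodup_nil,
        and_true, not_false_eq_true] at hn ⊢
      exact ⟨⟨hn.1.1, hn.1.2.2, hn.1.2.1⟩, ⟨hn.2.1.2, hn.2.1.1⟩, Ne.symm hn.2.2⟩)
    exact ⟨g, h⟩
  rw [Nat.card_eq_fintype_card, ← Fintype.card_subtype]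
  exact Fintype.card_congr
    { toFun := fun x => ⟨g⁻¹ * x.1, hg.inv_mul_mem x.2⟩
      invFun := fun τ => ⟨g * τ.1, hg.mul_mem τ.2⟩
      left_inv := fun x => Subtype.ext (by simp)
      right_inv := fun τ => Subtype.ext (by simp) }

/-- Counting for involutions with `f` fixed points interchanging two given points. -/
theorem count_swap (h4 : IsMultiplyPretransitive H β 4) {a b c d : β} (hn : [a, b, c, d].Nodup)
    (f : ℕ) [∀ x : H, Decidable (IsTr x a b c d)] [∀ x : H, Decidable (IsDb x a b c d)] :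
    (univ.filter fun x : H => x * x = 1 ∧ (fixSet x : Finset β).card = f ∧ IsTr x a b c d).card *
        (Fintype.card β - f - 2) =
      (univ.filter fun x : H => x * x = 1 ∧ (fixSet x : Finset β).card = f ∧ IsDb x a b c d).card *
        (f * f - f) := by
  classical
  have hnd := hn
  simp only [List.nodup_cons, List.mem_cons, List.not_mem_nil, or_false, not_or, List.nodup_nil,
    and_true, not_false_eq_true] at hnd
  obtain ⟨⟨hab, hac, had⟩, ⟨hbc, hbd⟩, hcd⟩ := hnd
  set S := univ.filter fun x : H => x * x = 1 ∧ (fixSet x : Finset β).card = f ∧ x • c = d ∧ x • d = c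
    with hSdef
  set A : Subgroup H := stabilizer H c ⊓ stabilizer H d with hA
  set C : Finset β := {c, d}ᶜ with hC
  have memC : ∀ p, p ∈ C ↔ p ≠ c ∧ p ≠ d := fun p => by simp [hC]
  have hS : ∀ g ∈ A, ∀ x ∈ S, g * x * g⁻¹ ∈ S := fun g hg x hx => by
    obtain ⟨gc, gd⟩ : g • c = c ∧ g • d = d := by simpa [hA] using hg
    simp only [hSdef, mem_filter, mem_univ, true_and] at hx ⊢
    refine ⟨?_, (card_fixSet_conj g x).trans hx.2.1, ?_, ?_⟩
    · calc g * x * g⁻¹ * (g * x * g⁻¹) = g * (x * x) * g⁻¹ := by group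
        _ = 1 := by rw [hx.1, mul_one, mul_inv_cancel]
    · rw [mul_smul, mul_smul, inv_smul_eq_iff.2 gc.symm, hx.2.2.1, gd]
    · rw [mul_smul, mul_smul, inv_smul_eq_iff.2 gd.symm, hx.2.2.2, gc]
  have hP : ∀ p ∈ C.offDiag, ∀ q ∈ C.offDiag, ∃ g ∈ A, g • p = q := by
    intro p hp q hq
    simp only [mem_offDiag, memC] at hp hq
    obtain ⟨g, g1, g2, g3, g4⟩ := exists_smul₄ h4 (a := c) (b := d) (c := p.1) (d := p.2) (by
      simp only [List.nodup_cons, List.mem_cons, List.not_mem_nil, or_false, not_or, List.nodup_nil,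
        and_true, not_false_eq_true]
      exact ⟨⟨hcd, Ne.symm hp.1.1, Ne.symm hp.2.1.1⟩, ⟨Ne.symm hp.1.2, Ne.symm hp.2.1.2⟩, hp.2.2⟩)
      (a' := c) (b' := d) (c' := q.1) (d' := q.2) (by
      simp only [List.nodup_cons, List.mem_cons, List.not_mem_nil, or_false, not_or, List.nodup_nil,
        and_true, not_false_eq_true]
      exact ⟨⟨hcd, Ne.symm hq.1.1, Ne.symm hq.2.1.1⟩, ⟨Ne.symm hq.1.2, Ne.symm hq.2.1.2⟩, hq.2.2⟩)
    exact ⟨g, by simp [hA, g1, g2], Prod.ext g3 g4⟩
  have hy : (a, b) ∈ C.offDiag := by simp [mem_offDiag, memC, hab, hac, had, hbc, hbd]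
  have h1 := pairCount (fun (x : H) (p : β × β) => x • p.1 = p.1 ∧ x • p.2 = p.2) A S C.offDiag hS hP
    (fun g _ x p h => by
      constructor <;> simp [Prod.smul_fst, Prod.smul_snd, mul_smul, h.1, h.2]) hy
  have h2 := pairCount (fun (x : H) (p : β × β) => x • p.1 = p.2 ∧ x • p.2 = p.1) A S C.offDiag hS hP
    (fun g _ x p h => by
      constructor <;> simp [Prod.smul_fst, Prod.smul_snd, mul_smul, h.1, h.2]) hy
  have hfixC : ∀ x ∈ S, (C.filter fun p => x • p = p) = fixSet x := fun x hx => by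
    simp only [hSdef, mem_filter, mem_univ, true_and] at hx
    ext p
    simp only [mem_filter, memC, mem_fixSet, and_iff_right_iff_imp]
    exact fun h => ⟨fun e => hcd (by rw [← hx.2.2.1, ← e, h]), fun e => hcd (by rw [← hx.2.2.2, ← e, h])⟩
  have e1 : ∀ x ∈ S, (C.offDiag.filter fun p => x • p.1 = p.1 ∧ x • p.2 = p.2).card = f * f - f :=
    fun x hx => by
      rw [card_pairs_fixed, hfixC x hx]
      simp only [hSdef, mem_filter, mem_univ, true_and] at hx
      rw [hx.2.1]
  have e2 : ∀ x ∈ S, (C.offDiag.filter fun p => x • p.1 = p.2 ∧ x • p.2 = p.1).card =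
      Fintype.card β - f - 2 := fun x hx => by
    have hm := card_moved_add_card_fixed x C
    rw [hfixC x hx, hC, card_compl, card_pair hcd] at hm
    simp only [hSdef, mem_filter, mem_univ, true_and] at hx
    rw [card_pairs_swapped hx.1 fun p hp => by
      rw [memC] at hp ⊢
      exact ⟨fun e => hp.2 (smul_left_cancel x (e.trans hx.2.2.2.symm)),
        fun e => hp.1 (smul_left_cancel x (e.trans hx.2.2.1.symm))⟩]
    rw [hx.2.1] at hm
    simp only [hC] at hm ⊢
    omega
  rw [sum_congr rfl e1, sum_const, smul_eq_mul] at h1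
  rw [sum_congr rfl e2, sum_const, smul_eq_mul] at h2
  have hpos : 0 < C.offDiag.card := card_pos.2 ⟨_, hy⟩
  have hu : (S.filter fun x => x • a = a ∧ x • b = b) =
      univ.filter fun x : H => x * x = 1 ∧ (fixSet x : Finset β).card = f ∧ IsTr x a b c d := by
    ext x; simp [hSdef, IsTr]; grind
  have hd : (S.filter fun x => x • a = b ∧ x • b = a) =
      univ.filter fun x : H => x * x = 1 ∧ (fixSet x : Finset β).card = f ∧ IsDb x a b c d := by
    ext x; simp [hSdef, IsDb]; grind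
  rw [hu] at h1
  rw [hd] at h2
  refine Nat.eq_of_mul_eq_mul_left hpos ?_
  rw [← mul_assoc, ← h1, ← mul_assoc, ← h2]
  ring

/-- Counting for involutions with four fixed points fixing two given points. -/
theorem count_fix (h4 : IsMultiplyPretransitive H β 4) {a b c d : β} (hn : [a, b, c, d].Nodup)
    [∀ x : H, Decidable (IsTr x a b c d)] [∀ x : H, Decidable (x ∈ T4 H a b c d)] :
    (univ.filter fun x : H => x * x = 1 ∧ (fixSet x : Finset β).card = 4 ∧ x ∈ T4 H a b c d).card *
        (Fintype.card β - 4) =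
      (univ.filter fun x : H => x * x = 1 ∧ (fixSet x : Finset β).card = 4 ∧ IsTr x a b c d).card * 2 := by
  classical
  have hnd := hn
  simp only [List.nodup_cons, List.mem_cons, List.not_mem_nil, or_false, not_or, List.nodup_nil,
    and_true, not_false_eq_true] at hnd
  obtain ⟨⟨hab, hac, had⟩, ⟨hbc, hbd⟩, hcd⟩ := hnd
  set S := univ.filter fun x : H => x * x = 1 ∧ (fixSet x : Finset β).card = 4 ∧ x • a = a ∧ x • b = b
    with hSdef
  set A : Subgroup H := stabilizer H a ⊓ stabilizer H b with hA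
  set C : Finset β := {a, b}ᶜ with hC
  have memC : ∀ p, p ∈ C ↔ p ≠ a ∧ p ≠ b := fun p => by simp [hC]
  have hS : ∀ g ∈ A, ∀ x ∈ S, g * x * g⁻¹ ∈ S := fun g hg x hx => by
    obtain ⟨gc, gd⟩ : g • a = a ∧ g • b = b := by simpa [hA] using hg
    simp only [hSdef, mem_filter, mem_univ, true_and] at hx ⊢
    refine ⟨?_, (card_fixSet_conj g x).trans hx.2.1, ?_, ?_⟩
    · calc g * x * g⁻¹ * (g * x * g⁻¹) = g * (x * x) * g⁻¹ := by group
        _ = 1 := by rw [hx.1, mul_one, mul_inv_cancel]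
    · rw [mul_smul, mul_smul, inv_smul_eq_iff.2 gc.symm, hx.2.2.1, gc]
    · rw [mul_smul, mul_smul, inv_smul_eq_iff.2 gd.symm, hx.2.2.2, gd]
  have hP : ∀ p ∈ C.offDiag, ∀ q ∈ C.offDiag, ∃ g ∈ A, g • p = q := by
    intro p hp q hq
    simp only [mem_offDiag, memC] at hp hq
    obtain ⟨g, g1, g2, g3, g4⟩ := exists_smul₄ h4 (a := a) (b := b) (c := p.1) (d := p.2) (by
      simp only [List.nodup_cons, List.mem_cons, List.not_mem_nil, or_false, not_or, List.nodup_nil,
        and_true, not_false_eq_true]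
      exact ⟨⟨hab, Ne.symm hp.1.1, Ne.symm hp.2.1.1⟩, ⟨Ne.symm hp.1.2, Ne.symm hp.2.1.2⟩, hp.2.2⟩)
      (a' := a) (b' := b) (c' := q.1) (d' := q.2) (by
      simp only [List.nodup_cons, List.mem_cons, List.not_mem_nil, or_false, not_or, List.nodup_nil,
        and_true, not_false_eq_true]
      exact ⟨⟨hab, Ne.symm hq.1.1, Ne.symm hq.2.1.1⟩, ⟨Ne.symm hq.1.2, Ne.symm hq.2.1.2⟩, hq.2.2⟩)
    exact ⟨g, by simp [hA, g1, g2], Prod.ext g3 g4⟩
  have hy : (c, d) ∈ C.offDiag := by
    simp [mem_offDiag, memC, hcd, Ne.symm hac, Ne.symm had, Ne.symm hbc, Ne.symm hbd]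
  have h1 := pairCount (fun (x : H) (p : β × β) => x • p.1 = p.1 ∧ x • p.2 = p.2) A S C.offDiag hS hP
    (fun g _ x p h => by
      constructor <;> simp [Prod.smul_fst, Prod.smul_snd, mul_smul, h.1, h.2]) hy
  have h2 := pairCount (fun (x : H) (p : β × β) => x • p.1 = p.2 ∧ x • p.2 = p.1) A S C.offDiag hS hP
    (fun g _ x p h => by
      constructor <;> simp [Prod.smul_fst, Prod.smul_snd, mul_smul, h.1, h.2]) hy
  have hfixC : ∀ x ∈ S, (C.filter fun p => x • p = p).card = 2 := fun x hx => by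
    simp only [hSdef, mem_filter, mem_univ, true_and] at hx
    have he : (C.filter fun p => x • p = p) = fixSet x \ {a, b} := by
      ext p; simp [memC]; tauto
    have hsub : ({a, b} : Finset β) ⊆ fixSet x := by simp [insert_subset_iff, hx.2.2]
    rw [he, card_sdiff_of_subset hsub, hx.2.1, card_pair hab]
  have e1 : ∀ x ∈ S, (C.offDiag.filter fun p => x • p.1 = p.1 ∧ x • p.2 = p.2).card = 2 :=
    fun x hx => by rw [card_pairs_fixed, hfixC x hx]
  have e2 : ∀ x ∈ S, (C.offDiag.filter fun p => x • p.1 = p.2 ∧ x • p.2 = p.1).card =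
      Fintype.card β - 4 := fun x hx => by
    have hm := card_moved_add_card_fixed x C
    rw [hfixC x hx, hC, card_compl, card_pair hab] at hm
    simp only [hSdef, mem_filter, mem_univ, true_and] at hx
    rw [card_pairs_swapped hx.1 fun p hp => by
      rw [memC] at hp ⊢
      exact ⟨fun e => hp.1 (smul_left_cancel x (e.trans hx.2.2.1.symm)),
        fun e => hp.2 (smul_left_cancel x (e.trans hx.2.2.2.symm))⟩]
    simp only [hC] at hm ⊢
    omega
  rw [sum_congr rfl e1, sum_const, smul_eq_mul] at h1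
  rw [sum_congr rfl e2, sum_const, smul_eq_mul] at h2
  have hpos : 0 < C.offDiag.card := card_pos.2 ⟨_, hy⟩
  have hj : (S.filter fun x => x • c = c ∧ x • d = d) =
      univ.filter fun x : H => x * x = 1 ∧ (fixSet x : Finset β).card = 4 ∧ x ∈ T4 H a b c d := by
    ext x; simp [hSdef, mem_T4]; tauto
  have hu : (S.filter fun x => x • c = d ∧ x • d = c) =
      univ.filter fun x : H => x * x = 1 ∧ (fixSet x : Finset β).card = 4 ∧ IsTr x a b c d := by
    ext x; simp [hSdef, IsTr]; grind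
  rw [hj] at h1
  rw [hu] at h2
  refine Nat.eq_of_mul_eq_mul_left hpos ?_
  rw [← mul_assoc, ← h1, ← mul_assoc, ← h2]
  ring

end Counting

section Main

variable {H β : Type*} [Group H] [Finite H] [MulAction H β] [Fintype β] [DecidableEq β]

/-- The case of four-point stabilisers of odd order. -/
theorem semiregular_odd (h4 : IsMultiplyPretransitive H β 4)
    (hfive : ∀ g : H, g ≠ 1 → (fixSet g : Finset β).card ≤ 4) (hN : 6 ≤ Fintype.card β)
    (hodd : ∀ a b c d : β, [a, b, c, d].Nodup → Odd (Nat.card (T4 H a b c d)))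
    {a b c d : β} (hn : [a, b, c, d].Nodup) :
    Fintype.card β - 4 ≤ Nat.card (T4 H a b c d) ∨
      (T4 H a b c d = ⊥ ∧ (Fintype.card β = 6 ∨ Fintype.card β = 11)) := by
  classical
  letI := Fintype.ofFinite H
  -- involutions fix at most three points
  have hle3 : ∀ x : H, x * x = 1 → x ≠ 1 → (fixSet x : Finset β).card ≤ 3 := fun x hx hx1 => by
    by_contra hlt
    obtain ⟨p, q, r, s, hnod, hp, hq, hr, hs⟩ := exists_four (show 4 ≤ (fixSet x : Finset β).card by omega)
    simp only [mem_fixSet] at hp hq hr hs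
    have hmem : x ∈ T4 H p q r s := mem_T4.2 ⟨hp, hq, hr, hs⟩
    refine hx1 (orderOf_eq_one_iff.1 (Nat.Coprime.eq_one_of_dvd ?_ ((T4 H p q r s).orderOf_dvd_natCard hmem)))
    exact Nat.Coprime.of_dvd_left (orderOf_dvd_of_pow_eq_one (by rw [pow_two, hx]))
      (Nat.coprime_two_left.2 (hodd p q r s hnod))
  -- perturbations of the quadruple
  have hn34 : ∀ {a b c d : β}, [a, b, c, d].Nodup → [a, b, d, c].Nodup ∧ [c, d, a, b].Nodup ∧
      [b, a, d, c].Nodup ∧ [a, c, b, d].Nodup ∧ [a, d, b, c].Nodup ∧ a ≠ b ∧ c ≠ d := by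
    intro a b c d h
    simp only [List.nodup_cons, List.mem_cons, List.not_mem_nil, or_false, not_or, List.nodup_nil,
      and_true, not_false_eq_true] at h ⊢
    simp only [ne_comm]
    tauto
  have hu : ∀ {a b c d : β}, [a, b, c, d].Nodup → ∃ u : H, u * u = 1 ∧ u ≠ 1 ∧ IsTr u a b c d := by
    intro a b c d h
    obtain ⟨g, hg⟩ := exists_smul₄ h4 h (hn34 h).1
    have hgg : g * g ∈ T4 H a b c d := by
      simp only [mem_T4, mul_smul, hg.1, hg.2.1, hg.2.2.1, hg.2.2.2, and_self]
    have hgn : g ∉ T4 H a b c d := fun hm => (hn34 h).2.2.2.2.2.2 (hg.2.2.1 ▸ (mem_T4.1 hm).2.2.1).symm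
    obtain ⟨u, u1, u2, u3⟩ := exists_involution_coset (hodd a b c d h) hgg hgn
    exact ⟨u, u1, u2, mul_inv_cancel_left g u ▸ IsTr.mul_mem (x := g) hg u3⟩
  obtain ⟨u, u1, u2, u3⟩ := hu hn
  -- all involutions are conjugate
  have hconj : ∀ x : H, x * x = 1 → x ≠ 1 → ∀ y : H, y * y = 1 → y ≠ 1 →
      (fixSet x : Finset β).card = (fixSet y : Finset β).card := by
    intro x hx hx1 y hy hy1
    obtain ⟨g, hg⟩ := exists_conj_db h4 hx (by have := hle3 x hx hx1; omega) hn
    obtain ⟨g', hg'⟩ := exists_conj_db h4 hy (by have := hle3 y hy hy1; omega) hn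
    have hsq : ∀ k z : H, z * z = 1 → k * z * k⁻¹ * (k * z * k⁻¹) = 1 := fun k z hz => by
      calc k * z * k⁻¹ * (k * z * k⁻¹) = k * (z * z) * k⁻¹ := by group
        _ = 1 := by rw [hz, mul_one, mul_inv_cancel]
    have hm := hg.inv_mul_mem hg'
    rw [inv_eq_of_mul_eq_one_right (hsq g x hx)] at hm
    obtain ⟨k, -, hk⟩ := exists_conj_of_odd (hsq g x hx) (hsq g' y hy)
      ((hodd a b c d hn).of_dvd_nat ((T4 H a b c d).orderOf_dvd_natCard hm))
    rw [← card_fixSet_conj g' y, hk, card_fixSet_conj, card_fixSet_conj]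
  set f := (fixSet u : Finset β).card with hf
  have hf2 : 2 ≤ f := by
    refine le_trans ?_ (card_le_card (show ({a, b} : Finset β) ⊆ fixSet u by
      simp [insert_subset_iff, u3.1, u3.2.1]))
    rw [card_pair (hn34 hn).2.2.2.2.2.1]
  have hf3 := hle3 u u1 u2
  have hfall : ∀ x : H, x * x = 1 → x ≠ 1 → (fixSet x : Finset β).card = f := fun x hx hx1 =>
    hconj x hx hx1 u u1 u2
  have hdb : ∀ {a b c d : β}, [a, b, c, d].Nodup → ∃ x : H, x * x = 1 ∧ x ≠ 1 ∧ IsDb x a b c d := by
    intro a b c d h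
    obtain ⟨g, hg⟩ := exists_conj_db h4 u1 (by omega) h
    refine ⟨_, ?_, ?_, hg⟩
    · calc g * u * g⁻¹ * (g * u * g⁻¹) = g * (u * u) * g⁻¹ := by group
        _ = 1 := by rw [u1, mul_one, mul_inv_cancel]
    · exact fun e => u2 (conj_eq_one_iff.1 e)
  have hcount := count_swap h4 hn f
  obtain hf' | hf' : f = 2 ∨ f = 3 := by omega
  · -- two fixed points: the double elements invert
    have hinv : ∀ {a b c d : β}, [a, b, c, d].Nodup → ∀ x : H, x * x = 1 → x ≠ 1 → IsDb x a b c d →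
        ∀ σ ∈ T4 H a b c d, x * σ * x⁻¹ = σ⁻¹ := by
      intro a b c d h x hx hx1 hx3
      refine invert _ hx (fun τ hτ => hx3.normalizes hτ) fun τ hτ hc => ?_
      obtain ⟨p, q, hpq, he⟩ := card_eq_two.1 ((hfall x hx hx1).trans hf')
      have hp : x • p = p := mem_fixSet.1 (he ▸ mem_insert_self p _)
      have hq : x • q = q := mem_fixSet.1 (he ▸ mem_insert_of_mem (mem_singleton_self q))
      have hτp : τ • p = p ∨ τ • p = q := by
        have : τ • p ∈ fixSet x := by rw [mem_fixSet, ← mul_smul, ← hc, mul_smul, hp]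
        simpa [he] using this
      have hτq : τ • q = p ∨ τ • q = q := by
        have : τ • q ∈ fixSet x := by rw [mem_fixSet, ← mul_smul, ← hc, mul_smul, hq]
        simpa [he] using this
      have h2 : (τ * τ) • p = p := by
        rw [mul_smul]
        rcases hτp with e | e
        · rw [e, e]
        · rw [e]
          exact hτq.resolve_right fun e' => hpq (smul_left_cancel τ (e.trans e'.symm))
      have hout : p ∉ [a, b, c, d] := by
        obtain ⟨x1, x2, x3, x4⟩ := hx3
        obtain ⟨-, -, -, -, -, n1, n2⟩ := hn34 h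
        simp only [List.mem_cons, List.not_mem_nil, or_false]
        rintro (rfl | rfl | rfl | rfl)
        · exact n1 (hp.symm.trans x1)
        · exact n1 (x2.symm.trans hp)
        · exact n2 (hp.symm.trans x3)
        · exact n2 (x4.symm.trans hp)
      have h1 := outside_free hfive h hout (mul_mem hτ hτ) h2
      refine orderOf_eq_one_iff.1 (Nat.Coprime.eq_one_of_dvd ?_ ((T4 H a b c d).orderOf_dvd_natCard hτ))
      exact Nat.Coprime.of_dvd_left (orderOf_dvd_of_pow_eq_one (by rw [pow_two, h1]))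
        (Nat.coprime_two_left.2 (hodd a b c d h))
    obtain ⟨d1, a1, a2, a3⟩ := hdb hn
    obtain ⟨d2, b1, b2, b3⟩ := hdb (hn34 hn).2.2.2.1
    obtain ⟨d3, c1, c2, c3⟩ := hdb (hn34 hn).2.2.2.2.1
    have i1 := hinv hn d1 a1 a2 a3
    have i2 := hinv (hn34 hn).2.2.2.1 d2 b1 b2 b3
    have i3 := hinv (hn34 hn).2.2.2.2.1 d3 c1 c2 c3
    rw [T4_mid] at i2
    rw [T4_cycle] at i3
    have hT : T4 H a b c d = ⊥ := by
      refine (Subgroup.eq_bot_iff_forall _).2 fun σ hσ => ?_
      have hc := centralize_coset i1 i2 (d := d3)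
        (T4_cycle (H := H) a b c d ▸ (a3.mul_db b3).inv_mul_mem c3) hσ
      have h := i3 σ hσ
      rw [hc, mul_inv_cancel_right] at h
      refine orderOf_eq_one_iff.1 (Nat.Coprime.eq_one_of_dvd ?_ ((T4 H a b c d).orderOf_dvd_natCard hσ))
      exact Nat.Coprime.of_dvd_left
        (orderOf_dvd_of_pow_eq_one (by rw [pow_two]; exact eq_inv_iff_mul_eq_one.1 h))
        (Nat.coprime_two_left.2 (hodd a b c d hn))
    refine Or.inr ⟨hT, Or.inl ?_⟩
    have hone : ∀ {Pr : H → Prop} [DecidablePred Pr], (∀ x y, Pr x → Pr y → x⁻¹ * y ∈ T4 H a b c d) →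
        ∀ x, Pr x → (univ.filter Pr).card = 1 := fun hPr x hx => by
      refine card_eq_one.2 ⟨x, eq_singleton_iff_unique_mem.2 ⟨by simp [hx], fun y hy => ?_⟩⟩
      rw [mem_filter] at hy
      have := hPr x y hx hy.2
      rw [hT, Subgroup.mem_bot, inv_mul_eq_one] at this
      exact this.symm
    rw [hone (fun x y hx hy => hx.2.2.inv_mul_mem hy.2.2) u ⟨u1, rfl, u3⟩,
      hone (fun x y hx hy => hx.2.2.inv_mul_mem hy.2.2) d1 ⟨a1, hfall d1 a1 a2, a3⟩, hf'] at hcount
    omega
  · -- three fixed points: the transpositional elements invert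
    have hinv : ∀ {a b c d : β}, [a, b, c, d].Nodup → ∀ x : H, x * x = 1 → x ≠ 1 → IsTr x a b c d →
        ∀ σ ∈ T4 H a b c d, x * σ * x⁻¹ = σ⁻¹ := by
      intro a b c d h x hx hx1 hx3
      refine invert _ hx (fun τ hτ => hx3.normalizes hτ) fun τ hτ hc => ?_
      obtain ⟨x1, x2, x3, x4⟩ := hx3
      obtain ⟨-, -, -, -, -, n1, n2⟩ := hn34 h
      obtain ⟨p, he⟩ : ∃ p, fixSet x \ ({a, b} : Finset β) = {p} := card_eq_one.1 (by
        rw [card_sdiff_of_subset (by simp [insert_subset_iff, x1, x2]), card_pair n1, hfall x hx hx1, hf'])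
      have hp : p ∈ fixSet x \ ({a, b} : Finset β) := he ▸ mem_singleton_self p
      simp only [mem_sdiff, mem_fixSet, mem_insert, mem_singleton, not_or] at hp
      obtain ⟨t1, t2, -, -⟩ := mem_T4.1 hτ
      have hτp : τ • p ∈ fixSet x \ ({a, b} : Finset β) := by
        simp only [mem_sdiff, mem_fixSet, mem_insert, mem_singleton, not_or]
        refine ⟨by rw [← mul_smul, ← hc, mul_smul, hp.1], fun e => hp.2.1 ?_, fun e => hp.2.2 ?_⟩
        · exact smul_left_cancel τ (e.trans t1.symm)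
        · exact smul_left_cancel τ (e.trans t2.symm)
      rw [he, mem_singleton] at hτp
      refine outside_free hfive h ?_ hτ hτp
      simp only [List.mem_cons, List.not_mem_nil, or_false]
      rintro (rfl | rfl | rfl | rfl)
      · exact hp.2.1 rfl
      · exact hp.2.2 rfl
      · exact n2 (hp.1.symm.trans x3)
      · exact n2 (x4.symm.trans hp.1)
    obtain ⟨v, v1, v2, v3⟩ := hu (hn34 hn).2.1
    have iu := hinv hn u u1 u2 u3
    have iv := hinv (hn34 hn).2.1 v v1 v2 v3
    rw [T4_swap_pairs] at iv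
    have hall : (univ.filter fun x : H => x * x = 1 ∧ (fixSet x : Finset β).card = f ∧ IsTr x a b c d) =
        univ.filter fun x : H => IsTr x a b c d := by
      refine filter_congr fun x _ => ⟨fun h => h.2.2, fun h => ?_⟩
      obtain ⟨σ, hσ, rfl⟩ : ∃ σ ∈ T4 H a b c d, x = u * σ := ⟨_, u3.inv_mul_mem h, by group⟩
      have h2 : u * σ * (u * σ) = 1 := by
        have := iu σ hσ
        rw [inv_eq_of_mul_eq_one_right u1] at this
        calc u * σ * (u * σ) = (u * σ * u) * σ := by group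
          _ = 1 := by rw [this, inv_mul_cancel]
      refine ⟨h2, hfall _ h2 fun e => ?_, h⟩
      exact (hn34 hn).2.2.2.2.2.2 (by simpa [e] using h.2.2.1)
    obtain ⟨d0, e1, e2, e3⟩ := hdb hn
    have hd1 : (univ.filter fun x : H => x * x = 1 ∧ (fixSet x : Finset β).card = f ∧ IsDb x a b c d).card = 1 := by
      refine card_eq_one.2 ⟨d0, eq_singleton_iff_unique_mem.2 ⟨by simp [e1, hfall d0 e1 e2, e3], fun y hy => ?_⟩⟩
      rw [mem_filter] at hy
      exact (eq_of_centralize (hodd a b c d hn) e1 hy.2.1 (e3.inv_mul_mem hy.2.2.2)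
        fun σ hσ => centralize_coset iu iv ((u3.mul_tr v3).inv_mul_mem e3) hσ).symm
    rw [hall, card_coset_tr h4 hn, hd1, hf'] at hcount
    have ho := hodd a b c d hn
    have hdvd : Nat.card (T4 H a b c d) ∣ 6 := ⟨_, by rw [hcount]⟩
    have hle := Nat.le_of_dvd (by norm_num) hdvd
    obtain ⟨m, hm⟩ := ho
    obtain hm' | hm' | hm' : m = 0 ∨ m = 1 ∨ m = 2 := by omega
    · subst hm'
      rw [hm] at hcount
      exact Or.inr ⟨Subgroup.eq_bot_of_card_eq _ (by omega), Or.inr (by omega)⟩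
    · subst hm'
      rw [hm] at hcount ⊢
      exact Or.inl (by omega)
    · subst hm'
      rw [hm] at hdvd
      norm_num at hdvd

/-- In the even case the stabiliser of four points is transitive outside. -/
theorem semiregular_even (h4 : IsMultiplyPretransitive H β 4)
    (hfive : ∀ g : H, g ≠ 1 → (fixSet g : Finset β).card ≤ 4)
    {a b c d : β} (hn : [a, b, c, d].Nodup) (heven : Even (Nat.card (T4 H a b c d))) :
    Fintype.card β - 4 < 2 * Nat.card (T4 H a b c d) := by
  classical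
  letI := Fintype.ofFinite H
  by_contra hlt
  push Not at hlt
  set t := Nat.card (T4 H a b c d) with ht
  have htpos : 0 < t := Nat.card_pos
  have ht2 : 2 ≤ t := Nat.le_of_dvd htpos (even_iff_two_dvd.1 heven)
  -- counting in every quadruple
  have key : ∀ {a b c d : β}, [a, b, c, d].Nodup →
      Fintype.card β - 4 = 2 * t ∧
      (univ.filter fun x : H => x * x = 1 ∧ (fixSet x : Finset β).card = 4 ∧ x ∈ T4 H a b c d).card = 1 ∧
      (∀ x : H, IsTr x a b c d → x * x = 1 ∧ (fixSet x : Finset β).card = 4) := by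
    intro p q r s h
    have htc : Nat.card (T4 H p q r s) = t := card_T4_eq h4 h hn
    haveI : Fact (Nat.Prime 2) := ⟨Nat.prime_two⟩
    obtain ⟨z, hz⟩ := exists_prime_orderOf_dvd_card' (G := T4 H p q r s) 2
      (htc ▸ even_iff_two_dvd.1 heven)
    have hz1 : (z : H) ≠ 1 := fun e => by
      rw [OneMemClass.coe_eq_one.1 e, orderOf_one] at hz; omega
    have hz2 : (z : H) * z = 1 := by
      have := pow_orderOf_eq_one z
      rw [hz, pow_two] at this
      exact congrArg Subtype.val this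
    have hz4 : (fixSet (z : H) : Finset β).card = 4 := by
      refine le_antisymm (hfive _ hz1) ?_
      obtain ⟨t1, t2, t3, t4⟩ := mem_T4.1 z.2
      have : [p, q, r, s].toFinset ⊆ fixSet (z : H) := fun x hx => by
        simp only [List.mem_toFinset, List.mem_cons, List.not_mem_nil, or_false] at hx
        rcases hx with rfl | rfl | rfl | rfl <;> simp [t1, t2, t3, t4]
      exact (le_of_eq (List.toFinset_card_of_nodup h).symm).trans (card_le_card this)
    have hj : 1 ≤ (univ.filter fun x : H => x * x = 1 ∧ (fixSet x : Finset β).card = 4 ∧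
        x ∈ T4 H p q r s).card := card_pos.2 ⟨z, by simp [hz2, hz4]⟩
    have hiu : (univ.filter fun x : H => x * x = 1 ∧ (fixSet x : Finset β).card = 4 ∧
        IsTr x p q r s).card ≤ t := by
      rw [← htc, ← card_coset_tr h4 h]
      exact card_le_card fun x hx => by simp only [mem_filter] at hx ⊢; exact ⟨hx.1, hx.2.2.2⟩
    have hc := count_fix h4 h
    generalize hjd : (univ.filter fun x : H => x * x = 1 ∧ (fixSet x : Finset β).card = 4 ∧
        x ∈ T4 H p q r s).card = j at hj hc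
    generalize hid : (univ.filter fun x : H => x * x = 1 ∧ (fixSet x : Finset β).card = 4 ∧
        IsTr x p q r s).card = i at hiu hc
    have hj1 : j = 1 := by
      by_contra hne
      have := Nat.mul_le_mul_right (Fintype.card β - 4) (show 2 ≤ j by omega)
      omega
    subst hj1
    refine ⟨by omega, rfl, fun x hx => ?_⟩
    have hall : (univ.filter fun x : H => x * x = 1 ∧ (fixSet x : Finset β).card = 4 ∧
        IsTr x p q r s) = univ.filter fun x : H => IsTr x p q r s :=
      eq_of_subset_of_card_le (fun x hx => by simp only [mem_filter] at hx ⊢; exact ⟨hx.1, hx.2.2.2⟩)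
        (by rw [hid, card_coset_tr h4 h, htc]; omega)
    have hmem : x ∈ univ.filter fun x : H => IsTr x p q r s := by simp [hx]
    rw [← hall, mem_filter] at hmem
    exact ⟨hmem.2.1, hmem.2.2.1⟩
  obtain ⟨hN, hj, htr⟩ := key hn
  -- transpositional elements invert
  have hinv : ∀ {a b c d : β}, [a, b, c, d].Nodup → ∀ x : H, IsTr x a b c d →
      ∀ σ ∈ T4 H a b c d, x * σ * x⁻¹ = σ⁻¹ := by
    intro p q r s h x hx σ hσ
    have h1 := ((key h).2.2 x hx).1
    have h2 := ((key h).2.2 _ (hx.mul_mem hσ)).1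
    rw [inv_eq_of_mul_eq_one_right h1]
    exact eq_inv_of_mul_eq_one_left (by rw [← h2]; group)
  have hperm : [c, d, a, b].Nodup ∧ [a, b, d, c].Nodup ∧ [c, d, b, a].Nodup ∧ [a, c, b, d].Nodup ∧
      [a, d, b, c].Nodup ∧ b ≠ c ∧ b ≠ d ∧ c ≠ d := by
    have h := hn
    simp only [List.nodup_cons, List.mem_cons, List.not_mem_nil, or_false, not_or, List.nodup_nil,
      and_true, not_false_eq_true] at h ⊢
    simp only [ne_comm]
    tauto
  obtain ⟨z0, hz0⟩ : ∃ z : H, z * z = 1 ∧ (fixSet z : Finset β).card = 4 := by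
    obtain ⟨z, hz⟩ := card_pos.1 (show 0 < _ by rw [hj]; exact Nat.one_pos)
    simp only [mem_filter] at hz
    exact ⟨z, hz.2.1, hz.2.2.1⟩
  -- double elements with four fixed points
  have hdb : ∀ {a b c d : β}, [a, b, c, d].Nodup →
      ∃ x : H, x * x = 1 ∧ (fixSet x : Finset β).card = 4 ∧ IsDb x a b c d := by
    intro p q r s h
    obtain ⟨g, hg⟩ := exists_conj_db h4 hz0.1 (by omega) h
    refine ⟨_, ?_, (card_fixSet_conj g z0).trans hz0.2, hg⟩
    calc g * z0 * g⁻¹ * (g * z0 * g⁻¹) = g * (z0 * z0) * g⁻¹ := by group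
      _ = 1 := by rw [hz0.1, mul_one, mul_inv_cancel]
  -- such an element centralises the stabiliser, and its fixed points form orbits
  have hfix : ∀ {p q r s : β}, [p, q, r, s].Nodup → T4 H p q r s = T4 H a b c d →
      (∀ x, x ∈ [p, q, r, s] ↔ x ∈ [a, b, c, d]) → ∀ x : H, IsDb x p q r s →
      fixSet x ⊆ outside a b c d ∧ ∀ w ∈ fixSet x, orb (H := H) a b c d w ⊆ fixSet x := by
    intro p q r s h hT hmem x hx
    have hnd := h
    simp only [List.nodup_cons, List.mem_cons, List.not_mem_nil, or_false, not_or, List.nodup_nil,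
      and_true, not_false_eq_true] at hnd
    have hperm1 : [r, s, p, q].Nodup ∧ [p, q, s, r].Nodup := by
      simp only [List.nodup_cons, List.mem_cons, List.not_mem_nil, or_false, not_or, List.nodup_nil,
        and_true, not_false_eq_true]
      simp only [ne_comm] at hnd ⊢
      tauto
    refine ⟨fun w hw => ?_, fun w hw v hv => ?_⟩
    · rw [mem_fixSet] at hw
      rw [mem_outside, ← hmem]
      obtain ⟨x1, x2, x3, x4⟩ := hx
      simp only [List.mem_cons, List.not_mem_nil, or_false]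
      rintro (rfl | rfl | rfl | rfl)
      · exact hnd.1.1 (hw.symm.trans x1)
      · exact hnd.1.1 (x2.symm.trans hw)
      · exact hnd.2.2 (hw.symm.trans x3)
      · exact hnd.2.2 (x4.symm.trans hw)
    · obtain ⟨τ, hτ, rfl⟩ := mem_orb.1 hv
      obtain ⟨g, hg⟩ := exists_smul₄ h4 h hperm1.2
      obtain ⟨g', hg'⟩ := exists_smul₄ h4 hperm1.1 (show [r, s, q, p].Nodup by
        simp only [List.nodup_cons, List.mem_cons, List.not_mem_nil, or_false, not_or, List.nodup_nil,
          and_true, not_false_eq_true]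
        simp only [ne_comm] at hnd ⊢
        tauto)
      have ig : ∀ σ ∈ T4 H p q r s, g * σ * g⁻¹ = σ⁻¹ := hinv h g hg
      have ig' : ∀ σ ∈ T4 H p q r s, g' * σ * g'⁻¹ = σ⁻¹ := T4_swap_pairs (H := H) p q r s ▸ hinv hperm1.1 g' hg'
      have hc := centralize_coset ig ig' ((IsTr.mul_tr (x := g) (y := g') hg hg').inv_mul_mem hx) (hT ▸ hτ)
      rw [mem_fixSet] at hw ⊢
      rw [← mul_smul, hc, mul_smul, hw]
  obtain ⟨d1, a1, a2, a3⟩ := hdb hn
  obtain ⟨d2, b1, b2, b3⟩ := hdb hperm.2.2.2.1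
  obtain ⟨d3, c1, c2, c3⟩ := hdb hperm.2.2.2.2.1
  obtain ⟨o1, p1⟩ := hfix hn rfl (fun _ => Iff.rfl) d1 a3
  obtain ⟨o2, p2⟩ := hfix hperm.2.2.2.1 (T4_mid a b c d) (fun x => by
    simp only [List.mem_cons, List.not_mem_nil, or_false]; tauto) d2 b3
  obtain ⟨o3, p3⟩ := hfix hperm.2.2.2.2.1 (T4_cycle a b c d) (fun x => by
    simp only [List.mem_cons, List.not_mem_nil, or_false]; tauto) d3 c3
  -- two such elements cannot share their fixed points
  have hdiff : ∀ x y : H, x * x = 1 → y * y = 1 → (fixSet x : Finset β).card = 4 →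
      (fixSet x : Finset β) = fixSet y → x = y := by
    intro x y hx hy hx4 he
    obtain ⟨p, q, r, s, h, hp, hq, hr, hs⟩ := exists_four (le_of_eq hx4.symm)
    have hmem : ∀ w : H, (fixSet w : Finset β) = fixSet x → w ∈ T4 H p q r s := fun w hw =>
      mem_T4.2 ⟨mem_fixSet.1 (hw ▸ hp), mem_fixSet.1 (hw ▸ hq), mem_fixSet.1 (hw ▸ hr),
        mem_fixSet.1 (hw ▸ hs)⟩
    exact card_le_one.1 (le_of_eq (key h).2.1) x (by simp [hx, hx4, hmem x rfl]) y
      (by simp [hy, ← he, hx4, hmem y he.symm])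
  have n12 : (fixSet d1 : Finset β) ≠ fixSet d2 := fun e => by
    have h := a3.1
    rw [hdiff d1 d2 a1 b1 a2 e, b3.1] at h
    exact hperm.2.2.2.2.2.1 h.symm
  have n13 : (fixSet d1 : Finset β) ≠ fixSet d3 := fun e => by
    have h := a3.1
    rw [hdiff d1 d3 a1 c1 a2 e, c3.1] at h
    exact hperm.2.2.2.2.2.2.1 h.symm
  have n23 : (fixSet d2 : Finset β) ≠ fixSet d3 := fun e => by
    have h := b3.1
    rw [hdiff d2 d3 b1 c1 b2 e, c3.1] at h
    exact hperm.2.2.2.2.2.2.2 h.symm
  have hout := card_outside hn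
  obtain ⟨w, hw⟩ := card_pos.1 (show 0 < (fixSet d1 : Finset β).card by omega)
  have ht4 : t ≤ 4 := by
    rw [← a2, ht, ← card_orb hfive hn (o1 hw)]
    exact card_le_card (p1 w hw)
  rcases (show t = 2 ∨ t = 4 by obtain ⟨m, hm⟩ := heven; omega) with ht' | ht'
  · refine n12 ((eq_of_subset_of_card_le o1 ?_).trans (eq_of_subset_of_card_le o2 ?_).symm) <;> omega
  · have hdisj : ∀ x y : H, (fixSet x : Finset β).card = 4 → (fixSet y : Finset β).card = 4 →
        fixSet x ⊆ outside a b c d → (∀ w ∈ fixSet x, orb (H := H) a b c d w ⊆ fixSet x) →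
        (∀ w ∈ fixSet y, orb (H := H) a b c d w ⊆ fixSet y) →
        (fixSet x : Finset β) ≠ fixSet y → Disjoint (fixSet x : Finset β) (fixSet y) := by
      intro x y hx hy ox px py hne
      rw [Finset.disjoint_left]
      intro w hwx hwy
      refine hne ((eq_of_subset_of_card_le (px w hwx) ?_).symm.trans (eq_of_subset_of_card_le (py w hwy) ?_))
      · rw [card_orb hfive hn (ox hwx), ← ht]; omega
      · rw [card_orb hfive hn (ox hwx), ← ht]; omega
    have h12 := hdisj d1 d2 a2 b2 o1 p1 p2 n12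
    have h13 := hdisj d1 d3 a2 c2 o1 p1 p3 n13
    have h23 := hdisj d2 d3 b2 c2 o2 p2 p3 n23
    have hu := card_le_card (union_subset (union_subset o1 o2) o3)
    rw [card_union_of_disjoint (disjoint_union_left.2 ⟨h13, h23⟩), card_union_of_disjoint h12] at hu
    omega

/-- **The semiregular case**: the stabiliser of four points is transitive on the remaining points,
or it is trivial and the degree is `6` or `11`. -/
theorem semiregular_four (h4 : IsMultiplyPretransitive H β 4)
    (hfive : ∀ g : H, g ≠ 1 → (fixSet g : Finset β).card ≤ 4) (hN : 6 ≤ Fintype.card β)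
    {a b c d : β} (hn : [a, b, c, d].Nodup) :
    (∀ p q : β, p ∉ [a, b, c, d] → q ∉ [a, b, c, d] →
        ∃ g : H, g • a = a ∧ g • b = b ∧ g • c = c ∧ g • d = d ∧ g • p = q) ∨
      (T4 H a b c d = ⊥ ∧ (Fintype.card β = 6 ∨ Fintype.card β = 11)) := by
  classical
  letI := Fintype.ofFinite H
  have hsize : Fintype.card β - 4 < 2 * Nat.card (T4 H a b c d) ∨
      (T4 H a b c d = ⊥ ∧ (Fintype.card β = 6 ∨ Fintype.card β = 11)) := by
    rcases Nat.even_or_odd (Nat.card (T4 H a b c d)) with he | ho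
    · exact Or.inl (semiregular_even h4 hfive hn he)
    · refine (semiregular_odd h4 hfive hN (fun p q r s h => card_T4_eq h4 hn h ▸ ho) hn).imp_left fun h => ?_
      have : 0 < Nat.card (T4 H a b c d) := Nat.card_pos
      omega
  refine hsize.imp_left fun hlt p q hp hq => ?_
  have hp' := mem_outside.2 hp
  have hq' := mem_outside.2 hq
  by_cases hmem : q ∈ orb (H := H) a b c d p
  · obtain ⟨τ, hτ, hτq⟩ := mem_orb.1 hmem
    obtain ⟨t1, t2, t3, t4⟩ := mem_T4.1 hτ
    exact ⟨τ, t1, t2, t3, t4, hτq⟩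
  · exfalso
    have hd : Disjoint (orb (H := H) a b c d p) (orb (H := H) a b c d q) := by
      rw [Finset.disjoint_left]
      intro w h1 h2
      obtain ⟨τ, hτ, rfl⟩ := mem_orb.1 h1
      obtain ⟨σ, hσ, e⟩ := mem_orb.1 h2
      exact hmem (mem_orb.2 ⟨σ⁻¹ * τ, mul_mem (inv_mem hσ) hτ, by rw [mul_smul, ← e, inv_smul_smul]⟩)
    have hu := card_le_card (union_subset (orb_subset (H := H) hp') (orb_subset (H := H) hq'))
    rw [card_union_of_disjoint hd, card_orb hfive hn hp', card_orb hfive hn hq', card_outside hn] at hu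
    omega

end Main

end CfsgLib.Perm.LW
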