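import Cfsg.Agent.Lib.Perm.Multi

/-!
Tools for multiply transitive groups: tuples as lists, fixed point sets, double counting over a
conjugation invariant set, involutions in cosets of subgroups of odd order.
-/

set_option autoImplicit false
set_option linter.unusedSectionVars false

namespace CfsgLib.Perm.LW

open MulAction Finset

variable {H β : Type*} [Group H] [MulAction H β]

/-- Tuples without repetition, given as lists, are permuted transitively. -/
theorem exists_smul_of_nodup {k : ℕ} (h : IsMultiplyPretransitive H β k) {l l' : List β}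
    (hl : l.Nodup) (hl' : l'.Nodup) (hk : l.length = k) (hk' : l'.length = k) :
    ∃ g : H, l.map (g • ·) = l' := by
  subst hk
  let x : Fin l.length ↪ β := ⟨fun i => l.get i, hl.injective_get⟩
  let y : Fin l.length ↪ β :=
    ⟨fun i => l'.get (Fin.cast hk'.symm i), hl'.injective_get.comp (Fin.cast_injective _)⟩
  obtain ⟨g, hg⟩ := h.exists_smul_eq x y
  refine ⟨g, List.ext_get (by simp [hk']) fun i h1 h2 => ?_⟩
  have := DFunLike.congr_fun hg ⟨i, by simpa using h1⟩
  simpa [x, y] using this

/-- Four-transitivity on quadruples of distinct points. -/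
theorem exists_smul₄ (h : IsMultiplyPretransitive H β 4) {a b c d a' b' c' d' : β}
    (hn : [a, b, c, d].Nodup) (hn' : [a', b', c', d'].Nodup) :
    ∃ g : H, g • a = a' ∧ g • b = b' ∧ g • c = c' ∧ g • d = d' := by
  obtain ⟨g, hg⟩ := exists_smul_of_nodup h hn hn' rfl rfl
  exact ⟨g, by simpa using hg⟩

/-- Two involutions with product of odd order are conjugate. -/
theorem exists_conj_of_odd [Finite H] {x y : H} (hx : x * x = 1) (hy : y * y = 1)
    (ho : Odd (orderOf (x * y))) : ∃ g ∈ Subgroup.zpowers (x * y), y = g * x * g⁻¹ := by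
  set w := x * y with hw
  obtain ⟨q, hq⟩ := ho
  have hxi : x⁻¹ = x := inv_eq_of_mul_eq_one_right hx
  have hinv : x * w * x⁻¹ = w⁻¹ := by
    rw [hxi, hw, mul_inv_rev, inv_eq_of_mul_eq_one_right hy, hxi, ← mul_assoc x x y, hx, one_mul]
  have hpow : ∀ m : ℕ, x * w ^ m * x⁻¹ = (w ^ m)⁻¹ := fun m => by
    rw [← conj_pow, hinv, inv_pow]
  refine ⟨w ^ q, Subgroup.npow_mem_zpowers w q, ?_⟩
  have h2 : x * (w ^ q)⁻¹ = w ^ q * x := by
    rw [← hpow q, ← mul_assoc, ← mul_assoc, hx, one_mul, hxi]
  have hy' : y = x * w := by rw [hw, ← mul_assoc, hx, one_mul]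
  have h3 : (w ^ q)⁻¹ * (w ^ q)⁻¹ = w := by
    rw [← mul_inv_rev, ← pow_add, inv_eq_iff_mul_eq_one, ← pow_succ, ← two_mul, ← hq,
      pow_orderOf_eq_one]
  rw [← h2, hy', mul_assoc, h3]

/-- An element outside a subgroup of odd order whose square lies inside has an involution in its
coset. -/
theorem exists_involution_coset [Finite H] {K : Subgroup H} (hK : Odd (Nat.card K)) {g : H}
    (hg : g * g ∈ K) (hgK : g ∉ K) : ∃ u : H, u * u = 1 ∧ u ≠ 1 ∧ g⁻¹ * u ∈ K := by
  obtain ⟨i, hi⟩ := hK.of_dvd_nat (K.orderOf_dvd_natCard hg)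
  have hmem : g⁻¹ * g ^ (2 * i + 1) ∈ K := by
    rw [pow_succ', inv_mul_cancel_left, pow_mul, pow_two]
    exact pow_mem hg i
  refine ⟨g ^ (2 * i + 1), ?_, fun h => hgK ?_, hmem⟩
  · rw [← hi, ← (Commute.refl g).mul_pow, pow_orderOf_eq_one]
  · rw [h, mul_one] at hmem
    exact inv_mem_iff.1 hmem

section Fintype

variable [Fintype β] [DecidableEq β]

/-- The fixed points of `g`. -/
def fixSet (g : H) : Finset β := univ.filter fun p => g • p = p

@[simp] theorem mem_fixSet {g : H} {p : β} : p ∈ fixSet g ↔ g • p = p := by simp [fixSet]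

theorem card_fixSet_conj (g x : H) :
    (fixSet (g * x * g⁻¹) : Finset β).card = (fixSet x : Finset β).card := by
  refine card_bij' (fun p _ => g⁻¹ • p) (fun p _ => g • p) ?_ ?_ ?_ ?_
  · intro p hp
    rw [mem_fixSet, mul_smul, mul_smul, ← eq_inv_smul_iff] at hp
    simpa using hp
  · intro p hp
    rw [mem_fixSet] at hp
    simp [mul_smul, hp]
  · intro p _; simp
  · intro p _; simp

/-- Double counting over a conjugation invariant set. -/
theorem pairCount {Y : Type*} [MulAction H Y] (R : H → Y → Prop) [∀ x p, Decidable (R x p)]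
    (A : Subgroup H) (S : Finset H) (P : Finset Y) (hS : ∀ a ∈ A, ∀ x ∈ S, a * x * a⁻¹ ∈ S)
    (hP : ∀ p ∈ P, ∀ q ∈ P, ∃ a ∈ A, a • p = q)
    (hR : ∀ a ∈ A, ∀ x p, R x p → R (a * x * a⁻¹) (a • p)) {y : Y} (hy : y ∈ P) :
    ∑ x ∈ S, (P.filter (R x)).card = P.card * (S.filter fun x => R x y).card := by
  have hle : ∀ p ∈ P, ∀ q ∈ P,
      (S.filter fun x => R x p).card ≤ (S.filter fun x => R x q).card := fun p hp q hq => by
    obtain ⟨a, ha, rfl⟩ := hP p hp q hq
    refine card_le_card_of_injOn (fun x => a * x * a⁻¹) (fun x hx => ?_)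
      (MulAut.conj a).injective.injOn
    rw [mem_coe, mem_filter] at hx ⊢
    exact ⟨hS a ha x hx.1, hR a ha x p hx.2⟩
  calc ∑ x ∈ S, (P.filter (R x)).card
      = ∑ p ∈ P, (S.filter fun x => R x p).card := by
        simp only [card_filter]
        exact sum_comm
    _ = P.card * (S.filter fun x => R x y).card := by
        rw [sum_congr rfl fun p hp => le_antisymm (hle p hp y hy) (hle y hy p hp), sum_const, smul_eq_mul]

/-- Fixed ordered pairs in `C`. -/
theorem card_pairs_fixed (x : H) (C : Finset β) :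
    (C.offDiag.filter fun p => x • p.1 = p.1 ∧ x • p.2 = p.2).card =
      (C.filter fun a => x • a = a).card * (C.filter fun a => x • a = a).card -
        (C.filter fun a => x • a = a).card := by
  rw [← offDiag_card]
  congr 1
  ext ⟨a, b⟩
  simp only [mem_filter, mem_offDiag]
  tauto

/-- Ordered pairs in `C` interchanged by an involution. -/
theorem card_pairs_swapped {x : H} (hx : x * x = 1) {C : Finset β} (hC : ∀ a ∈ C, x • a ∈ C) :
    (C.offDiag.filter fun p => x • p.1 = p.2 ∧ x • p.2 = p.1).card =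
      (C.filter fun a => x • a ≠ a).card := by
  refine card_bij' (fun p _ => p.1) (fun a _ => (a, x • a)) ?_ ?_ ?_ ?_
  · intro p hp
    simp only [mem_filter, mem_offDiag] at hp ⊢
    exact ⟨hp.1.1, fun h => hp.1.2.2 (h.symm.trans hp.2.1)⟩
  · intro a ha
    simp only [mem_filter, mem_offDiag] at ha ⊢
    exact ⟨⟨ha.1, hC a ha.1, Ne.symm ha.2⟩, trivial, by rw [← mul_smul, hx, one_smul]⟩
  · intro p hp
    simp only [mem_filter, mem_offDiag] at hp
    exact Prod.ext rfl hp.2.1
  · intro a _; rfl

/-- An involution moves an even number of points of an invariant set. -/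
theorem even_card_moved {x : H} (hx : x * x = 1) {C : Finset β} (hC : ∀ a ∈ C, x • a ∈ C) :
    Even (C.filter fun a => x • a ≠ a).card := by
  have h : ∏ _a ∈ C.filter (fun a => x • a ≠ a), (-1 : ℤ) = 1 := by
    refine prod_involution (fun a _ => x • a) (fun a _ => by norm_num) (fun a ha _ => ?_)
      (fun a ha => ?_) (fun a _ => by rw [← mul_smul, hx, one_smul])
    · exact (mem_filter.1 ha).2
    · rw [mem_filter] at ha ⊢
      exact ⟨hC a ha.1, fun e => ha.2 (smul_left_cancel x e)⟩
  rw [prod_const] at h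
  exact (neg_one_pow_eq_one_iff_even (by norm_num)).1 h

theorem card_moved_add_card_fixed (x : H) (C : Finset β) :
    (C.filter fun a => x • a = a).card + (C.filter fun a => x • a ≠ a).card = C.card :=
  card_filter_add_card_filter_not _

end Fintype

end CfsgLib.Perm.LW
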